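import Cfsg.Agent.Lib.Recog.G2Two.Search

/-!
# The search for the swap of a group of order `6048` on twenty-eight points

The stabiliser of two points is cyclic of order eight.
-/

set_option autoImplicit false

namespace Cfsg.Lib.LenSeven.UThree

open Cfsg.Lib.Recog.G2Two

/-- The action of the generator of the stabiliser of two points on the labels. -/
def sig (e x : Nat) : Nat :=
  mulN e (mulN e (3 * (x % 3)) (4 * (x / 3 % 3))) (9 * ((3 - (x / 9 + e * (x % 3) * (x / 3 % 3)) % 3) % 3))

/-- The same on the points. -/
def sigP (e : Nat) : Nat := pack ((List.range 28).map fun i => if i == 27 then 27 else sig e i)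

/-- The powers of the generator on the points. -/
def tpW : List (List Nat) :=
  [[1212501494925312236363414443023805295200288, 1195562594456561468653351637501299527915616, 1202929638624750641963813909793002693566592, 1193086365935225657515834123439792107623648, 1206968007168372490508343340121786488652864, 1198237040284882401685463602872503690857664, 1204165943891839254575188625802328724902144, 1197001104603980429069103019742553911106720],
   [1212501494925312236363414443023805295200288, 1195562594456561468653351637501299527915616, 1202929638624750641963813909793002693566592, 1193086365935225657515834123439792107623648, 1206968007168372490508343340121786488652864, 1198237040284882401685463602872503690857664, 1204165943891839254575188625802328724902144, 1197001104603980429069103019742553911106720]]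

/-- The power number `a`. -/
def permW (e a : Nat) : Nat := (tpW.getD e []).getD a 0

/-- The orbit representatives. -/
def repsW : List Nat := [1, 9, 10, 12]

/-- The coordinates of the points in the orbits. -/
def coordW : List (Nat × Nat) := [(0, 0), (4, 0), (1, 0), (2, 0), (7, 0), (5, 0), (3, 0), (6, 0), (0, 1), (0, 2), (4, 2), (0, 3), (2, 2), (6, 3), (4, 3), (2, 3), (6, 2), (1, 1), (7, 3), (3, 3), (1, 2), (1, 3), (7, 2), (5, 2), (3, 2), (5, 3)]

/-- The survivors. -/
def survW : List (List Nat) := [[], [29421995464825159150200742455933730490427]]

/-- A function agrees with a power of the generator at three points. -/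
def inT (e x y z : Nat) : Bool :=
  (tpW.getD e []).any fun q => Nat.beq (pget q 1) x && (Nat.beq (pget q 3) y && Nat.beq (pget q 9) z)

/-- The candidate list of images. -/
def buildW (e k : Nat) (sel : List Nat) : List Nat :=
  27 :: (coordW.map fun c => pget (permW e (c.1 * k % 8)) (sel.getD c.2 0)) ++ [0]

/-- The word whose value must fix the last point, at a point. -/
def wordW (e p g x : Nat) : Nat :=
  pget p (pget (trt e (invN (pget p g))) (pget p (pget (trt e g) (pget p x))))

/-- The word moved back by a translation is a power of the generator. -/
def wordOkW (e p g : Nat) : Bool :=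
  inT e (pget (trt e (invN (wordW e p g 0))) (wordW e p g 1))
    (pget (trt e (invN (wordW e p g 0))) (wordW e p g 3))
    (pget (trt e (invN (wordW e p g 0))) (wordW e p g 9))

/-- The square is a power of the generator. -/
def squareOkW (e p : Nat) : Bool := inT e (pget p (pget p 1)) (pget p (pget p 3)) (pget p (pget p 9))

/-- A candidate is excluded or known. -/
def candOkW (e k : Nat) (sel : List Nat) : Bool :=
  !(Model.permOk (buildW e k sel)) || !(squareOkW e (pack (buildW e k sel))) ||
    !(wordOkW e (pack (buildW e k sel)) 1) || !(wordOkW e (pack (buildW e k sel)) 10) ||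
    (survW.getD e []).contains (pack (buildW e k sel))

/-- The possible images of a representative. -/
def optsW (e k r : Nat) : List Nat :=
  (List.range' 1 26).filter fun y =>
    [0, 1, 2, 3, 4, 5, 6, 7].all fun a =>
      Nat.beq (pget (permW e a) r) r == Nat.beq (pget (permW e (a * k % 8)) y) y

/-- `y` lies in the orbit of one of the chosen points. -/
def usedW (e : Nat) (sel : List Nat) (y : Nat) : Bool :=
  sel.any fun z => [0, 1, 2, 3, 4, 5, 6, 7].any fun a => Nat.beq (pget (permW e a) z) y

/-- The search. -/
def searchW (e k : Nat) : Bool :=
  ((optsW e k 1).filter fun y => repsW.any (Nat.beq y)).all fun y₀ => (optsW e k 9).all fun y₁ =>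
    usedW e [y₀] y₁ || (optsW e k 10).all fun y₂ => usedW e [y₀, y₁] y₂ || (optsW e k 12).all fun y₃ =>
      usedW e [y₀, y₁, y₂] y₃ || candOkW e k [y₀, y₁, y₂, y₃]

set_option maxRecDepth 20000 in
theorem searchW_01 : searchW 0 1 = true := by decide +kernel

set_option maxRecDepth 20000 in
theorem searchW_03 : searchW 0 3 = true := by decide +kernel

set_option maxRecDepth 20000 in
theorem searchW_05 : searchW 0 5 = true := by decide +kernel

set_option maxRecDepth 20000 in
theorem searchW_07 : searchW 0 7 = true := by decide +kernel

set_option maxRecDepth 20000 in
theorem searchW_11 : searchW 1 1 = true := by decide +kernel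

set_option maxRecDepth 20000 in
theorem searchW_13 : searchW 1 3 = true := by decide +kernel

set_option maxRecDepth 20000 in
theorem searchW_15 : searchW 1 5 = true := by decide +kernel

set_option maxRecDepth 20000 in
theorem searchW_17 : searchW 1 7 = true := by decide +kernel

theorem searchW_all : ([0, 1].all fun e => [1, 3, 5, 7].all fun k => searchW e k) = true := by
  simp [searchW_01, searchW_03, searchW_05, searchW_07, searchW_11, searchW_13, searchW_15, searchW_17]

theorem tpW_eq : ([0, 1].all fun e => Nat.beq (permW e 1) (sigP e) &&
    (Nat.beq (permW e 0) (pack (List.range 28)) && ([0, 1, 2, 3, 4, 5, 6, 7].all fun a =>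
      Nat.beq (pmul (sigP e) (permW e a)) (permW e ((a + 1) % 8))))) = true := by
  decide +kernel

theorem coordW_ok : ([0, 1].all fun e => (List.range 26).all fun y =>
    decide ((coordW.getD y (0, 0)).1 < 8) && (decide ((coordW.getD y (0, 0)).2 < 4) &&
      Nat.beq (pget (permW e (coordW.getD y (0, 0)).1) (repsW.getD (coordW.getD y (0, 0)).2 0)) (y + 1))) = true := by
  decide +kernel

theorem survW_zero : survW.getD 0 [] = [] := rfl

theorem survW_model : (survW.getD 1 []).all (fun s => (List.range 16).any fun a =>
    Nat.beq (pmul (modelH.surv.getD 0 0) (modelH.perm a)) s) = true := by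
  decide +kernel

theorem tpW_model : (tpW.getD 1 []).all (fun t => modelH.tp.contains t) = true := by decide +kernel

end Cfsg.Lib.LenSeven.UThree
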