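import Cfsg.Agent.Lib.LenSeven.UThree.Torus
import Cfsg.Agent.Lib.LenSeven.UThree.Search
import Cfsg.Agent.Lib.Recog.G2Two.Frames

/-!
# Labels on the Sylow `3`-subgroup adapted to the cyclic group of order eight
-/

set_option autoImplicit false
set_option linter.style.haveILetI false
set_option linter.unusedSectionVars false

namespace Cfsg.Lib.LenSeven.UThree

open Subgroup MulAction Cfsg.Lib.Recog.G2Two

/-- The coordinate of the commutator in a label. -/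
def kap (e i : ℕ) : ℕ := i / 9 + e * (i % 3) * (i / 3 % 3)

/-- The action of the involution on the labels. -/
def zeta (i : ℕ) : ℕ := (3 - i % 3) % 3 + 3 * ((3 - i / 3 % 3) % 3) + 9 * (i / 9)

/-- The action of the generator when it sends the second basis element to the label `x`. -/
def sigG (e x i : ℕ) : ℕ :=
  mulN e (mulN e (3 * (i % 3)) (if i / 3 % 3 = 0 then 0 else if i / 3 % 3 = 1 then x else mulN e x x))
    (9 * ((3 - kap e i % 3) % 3))

theorem kap_mul : ∀ e : Fin 2, ∀ i j : Fin 27, mulN e.1 i.1 j.1 % 3 = (i.1 % 3 + j.1 % 3) % 3 ∧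
    mulN e.1 i.1 j.1 / 3 % 3 = (i.1 / 3 % 3 + j.1 / 3 % 3) % 3 ∧
    kap e.1 (mulN e.1 i.1 j.1) % 3 =
      (kap e.1 i.1 + kap e.1 j.1 + 2 * e.1 * (i.1 / 3 % 3) * (j.1 % 3)) % 3 := by decide +kernel

theorem kap_zeta : ∀ e : Fin 2, ∀ i : Fin 27, zeta i.1 < 27 ∧ zeta i.1 % 3 = (2 * (i.1 % 3)) % 3 ∧
    zeta i.1 / 3 % 3 = (2 * (i.1 / 3 % 3)) % 3 ∧ kap e.1 (zeta i.1) % 3 = kap e.1 i.1 % 3 := by decide +kernel

theorem label_small : ∀ e : Fin 2, ∀ i : Fin 27, mulN e.1 (zeta i.1) i.1 = 0 → i.1 < 9 := by decide +kernel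

theorem label_root : ∀ e : Fin 2, ∀ x : Fin 27, x.1 < 9 →
    sigG e.1 x.1 (sigG e.1 x.1 (sigG e.1 x.1 (sigG e.1 x.1 1))) = 2 → x.1 = 4 ∨ x.1 = 7 := by decide +kernel

theorem sigG_four : ∀ e : Fin 2, ∀ i : Fin 27, sigG e.1 4 i.1 = sig e.1 i.1 := by decide +kernel

theorem sigG_lt (e x i : ℕ) : sigG e x i < 27 := mulN_lt _ _ _

theorem pow_cases : ∀ e : Fin 2, ∀ x : Fin 3,
    (3 * x.1) % 3 = 0 ∧ (3 * x.1) / 3 % 3 = x.1 ∧ kap e.1 (3 * x.1) = 0 ∧
      (9 * x.1) % 3 = 0 ∧ (9 * x.1) / 3 % 3 = 0 ∧ kap e.1 (9 * x.1) = x.1 := by decide +kernel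

/-- The value of a label. -/
def val {G : Type*} [Group G] (a b c : G) (e i : ℕ) : G := a ^ (i % 3) * b ^ (i / 3 % 3) * c ^ kap e i

theorem swap_pow {G : Type*} [Group G] {a b c : G} {n : ℕ} (hba : b * a = a * b * c ^ n) (hca : Commute c a)
    (hcb : Commute c b) : ∀ y x : ℕ, b ^ y * a ^ x = a ^ x * b ^ y * c ^ (n * y * x) := by
  have h1 : ∀ x : ℕ, b * a ^ x = a ^ x * b * c ^ (n * x) := by
    intro x
    induction x with
    | zero => simp
    | succ x ih =>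
      calc b * a ^ (x + 1) = b * a ^ x * a := by rw [pow_succ]; group
        _ = a ^ x * b * (c ^ (n * x) * a) := by rw [ih]; group
        _ = a ^ x * (b * a) * c ^ (n * x) := by rw [((hca.pow_left (n * x))).eq]; group
        _ = a ^ (x + 1) * b * (c ^ n * c ^ (n * x)) := by rw [hba, pow_succ]; group
        _ = a ^ (x + 1) * b * c ^ (n * (x + 1)) := by rw [← pow_add]; congr 2; ring
  intro y x
  induction y with
  | zero => simp
  | succ y ih =>
    calc b ^ (y + 1) * a ^ x = b ^ y * (b * a ^ x) := by rw [pow_succ]; group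
      _ = b ^ y * a ^ x * b * c ^ (n * x) := by rw [h1]; group
      _ = a ^ x * b ^ y * (c ^ (n * y * x) * b) * c ^ (n * x) := by rw [ih]; group
      _ = a ^ x * b ^ (y + 1) * (c ^ (n * y * x) * c ^ (n * x)) := by
        rw [(hcb.pow_left (n * y * x)).eq, pow_succ]; group
      _ = a ^ x * b ^ (y + 1) * c ^ (n * (y + 1) * x) := by rw [← pow_add]; congr 2; ring

theorem val_mul {G : Type*} [Group G] {a b c : G} {e : Fin 2} (ha : a ^ 3 = 1) (hb : b ^ 3 = 1) (hc : c ^ 3 = 1)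
    (hba : b * a = a * b * c ^ (2 * e.1)) (hca : Commute c a) (hcb : Commute c b) (i j : Fin 27) :
    val a b c e (mulF e i j).1 = val a b c e i * val a b c e j := by
  show val a b c e (mulN e.1 i.1 j.1) = _
  obtain ⟨e1, e2, e3⟩ := kap_mul e i j
  have pm : ∀ (g : G), g ^ 3 = 1 → ∀ n : ℕ, g ^ n = g ^ (n % 3) := fun g hg n => by
    conv_lhs => rw [← Nat.div_add_mod n 3, pow_add, pow_mul, hg, one_pow, one_mul]
  simp only [val]
  rw [pm c hc (kap e.1 (mulN e.1 i.1 j.1)), e1, e2, e3, ← pm a ha, ← pm b hb, ← pm c hc]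
  set x := i.1 % 3
  set y := i.1 / 3 % 3
  set k := kap e.1 i.1
  set x' := j.1 % 3
  set y' := j.1 / 3 % 3
  set k' := kap e.1 j.1
  calc a ^ (x + x') * b ^ (y + y') * c ^ (k + k' + 2 * e.1 * y * x')
      = a ^ x * (a ^ x' * b ^ y) * b ^ y' * (c ^ (2 * e.1 * y * x') * (c ^ k * c ^ k')) := by
        rw [← pow_add c k k', ← pow_add c, show 2 * e.1 * y * x' + (k + k') = k + k' + 2 * e.1 * y * x' by ring,
          pow_add, pow_add]
        group
    _ = a ^ x * (a ^ x' * b ^ y) * (b ^ y' * c ^ (2 * e.1 * y * x')) * (c ^ k * c ^ k') := by group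
    _ = a ^ x * (a ^ x' * b ^ y * c ^ (2 * e.1 * y * x')) * (b ^ y' * c ^ k) * c ^ k' := by
        rw [← (hcb.pow_pow (2 * e.1 * y * x') y').eq]; group
    _ = a ^ x * (b ^ y * a ^ x') * (c ^ k * b ^ y') * c ^ k' := by
        rw [← swap_pow hba hca hcb y x', (hcb.pow_pow k y').eq]
    _ = a ^ x * b ^ y * (a ^ x' * c ^ k) * b ^ y' * c ^ k' := by group
    _ = a ^ x * b ^ y * c ^ k * (a ^ x' * b ^ y' * c ^ k') := by rw [← (hca.pow_pow k x').eq]; group

theorem eq_one_of_sq_three {G : Type*} [Group G] {g : G} (h2 : g ^ 2 = 1) (h3 : g ^ 3 = 1) : g = 1 := by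
  rwa [pow_succ, h2, one_mul] at h3

theorem conj_pow_pow {G : Type*} [Group G] (u x : G) : ∀ n : ℕ, u ^ n * (u * x * u⁻¹) * (u ^ n)⁻¹ =
    u ^ (n + 1) * x * (u ^ (n + 1))⁻¹ := fun n => by
  rw [pow_succ]; group

variable {G : Type*} [Group G] [Finite G] [Fact (Nat.Prime 3)] {z u h : G} {P Q : Sylow 3 G}

namespace Base

theorem uz (B : Base z P Q u h) : Commute u z := by rw [← B.four]; exact (Commute.refl u).pow_right 4

theorem zP (B : Base z P Q u h) : z • P = P := by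
  rw [← B.four]
  exact Sylow.smul_eq_iff_mem_normalizer.2 (pow_mem (Sylow.smul_eq_iff_mem_normalizer.1 B.fixP) 4)

theorem zh (B : Base z P Q u h) : z * h * z⁻¹ = h := by
  rw [mul_inv_eq_iff_eq_mul]
  exact (mem_centralizer_singleton_iff.1 B.hC).symm

theorem zz (B : Base z P Q u h) : z * z = 1 := by rw [← pow_two, ← B.hz, pow_orderOf_eq_one]

theorem h3 (B : Base z P Q u h) : h ^ 3 = 1 := by rw [← B.three, pow_orderOf_eq_one]

theorem symm (B : Base z P Q u h) : Base z P Q u⁻¹ h where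
  order := by rw [orderOf_inv, B.order]
  four := by
    rw [inv_pow, B.four]
    exact inv_eq_of_mul_eq_one_right B.zz
  hz := B.hz
  fixP := inv_smul_eq_iff.2 B.fixP.symm
  fixQ := inv_smul_eq_iff.2 B.fixQ.symm
  ne := B.ne
  card := B.card
  n28 := B.n28
  cardN := B.cardN
  free := B.free
  hP := B.hP
  hC := B.hC
  three := B.three
  central := B.central
  fixed := B.fixed
  inv := by
    have e := B.inv
    calc u⁻¹ * h * u⁻¹⁻¹ = u⁻¹ * (u * h * u⁻¹)⁻¹ * u := by rw [e, inv_inv, inv_inv]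
      _ = h⁻¹ := by group

theorem eq_one_of_inverted (B : Base z P Q u h) {g : G} (hg : g ∈ zpowers h) (hi : z * g * z⁻¹ = g⁻¹) : g = 1 := by
  obtain ⟨k, rfl⟩ := hg
  have e : z * h ^ k * z⁻¹ = h ^ k := by rw [← MulAut.conj_apply, map_zpow, MulAut.conj_apply, B.zh]
  show h ^ k = 1
  have hi' : z * h ^ k * z⁻¹ = (h ^ k)⁻¹ := hi
  rw [e] at hi'
  refine eq_one_of_sq_three (by rw [pow_two]; nth_rewrite 2 [hi']; exact mul_inv_cancel _) ?_
  rw [← zpow_natCast, ← zpow_mul, mul_comm, zpow_mul, zpow_natCast, B.h3, one_zpow]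

theorem exists_inverted (B : Base z P Q u h) : ∃ a ∈ (P : Subgroup G), a ≠ 1 ∧ z * a * z⁻¹ = a⁻¹ := by
  obtain ⟨x, hx, hxh⟩ : ∃ x ∈ (P : Subgroup G), x ∉ zpowers h := by
    by_contra hall
    push Not at hall
    have := card_le_of_le (fun x hx => hall x hx : (P : Subgroup G) ≤ zpowers h)
    rw [B.card, Nat.card_zpowers, B.three] at this
    omega
  refine ⟨x⁻¹ * (z * x * z⁻¹), mul_mem (inv_mem hx) (mul_inv_mem_of_fix B.zP hx), fun e => ?_, ?_⟩
  · rw [inv_mul_eq_one] at e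
    exact hxh (B.fixed x hx (mem_centralizer_singleton_iff.2 (mul_inv_eq_iff_eq_mul.1 e.symm).symm))
  · have hzi : z⁻¹ = z := inv_eq_of_mul_eq_one_right B.zz
    rw [hzi]
    calc z * (x⁻¹ * (z * x * z)) * z = z * x⁻¹ * z * x * (z * z) := by group
      _ = z * x⁻¹ * z * x := by rw [B.zz, mul_one]
      _ = (x⁻¹ * (z⁻¹ * x * z⁻¹))⁻¹ := by group
      _ = (x⁻¹ * (z * x * z))⁻¹ := by rw [hzi]

/-- Cubes lie in the subgroup of order three. -/
theorem quotient_facts (B : Base z P Q u h) :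
    (∀ x ∈ (P : Subgroup G), x ^ 3 ∈ zpowers h) ∧
      ∀ x ∈ (P : Subgroup G), ∀ y ∈ (P : Subgroup G), x⁻¹ * y⁻¹ * x * y ∈ zpowers h := by
  classical
  set Z := (zpowers h).subgroupOf (P : Subgroup G) with hZ
  haveI : Z.Normal := ⟨fun x hx k => by
    rw [hZ, mem_subgroupOf] at hx ⊢
    obtain ⟨i, hi⟩ := hx
    refine ⟨i, ?_⟩
    show h ^ i = ((k * x * k⁻¹ : ↥(P : Subgroup G)) : G)
    rw [Subgroup.coe_mul, Subgroup.coe_mul, Subgroup.coe_inv, ← hi]
    exact eq_mul_inv_of_mul_eq ((B.central k k.2).zpow_right i).eq.symm⟩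
  have hidx : Nat.card (↥(P : Subgroup G) ⧸ Z) = 3 ^ 2 := by
    have h1 := card_mul_index Z
    rw [Nat.card_congr (subgroupOfEquivOfLe (zpowers_le.2 B.hP)).toEquiv, Nat.card_zpowers, B.three, B.card] at h1
    rw [← index_eq_card]
    omega
  have hab := IsPGroup.isMulCommutative_of_card_eq_prime_sq hidx
  refine ⟨fun x hx => ?_, fun x hx y hy => ?_⟩
  swap
  · show ((⟨x, hx⟩⁻¹ * ⟨y, hy⟩⁻¹ * ⟨x, hx⟩ * ⟨y, hy⟩ : ↥(P : Subgroup G)) : G) ∈ zpowers h
    rw [← mem_subgroupOf, ← hZ, ← QuotientGroup.eq_one_iff, QuotientGroup.mk_mul, QuotientGroup.mk_mul,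
      QuotientGroup.mk_mul, hab.is_comm.comm ((QuotientGroup.mk (⟨x, hx⟩⁻¹ : ↥(P : Subgroup G))))
        (QuotientGroup.mk (⟨y, hy⟩⁻¹ : ↥(P : Subgroup G))), QuotientGroup.mk_inv, QuotientGroup.mk_inv]
    group
  -- a quotient of exponent three
  show ((⟨x, hx⟩ ^ 3 : ↥(P : Subgroup G)) : G) ∈ zpowers h
  rw [← mem_subgroupOf, ← hZ, ← QuotientGroup.eq_one_iff, QuotientGroup.mk_pow]
  set Y := (QuotientGroup.mk (⟨x, hx⟩ : ↥(P : Subgroup G)) : ↥(P : Subgroup G) ⧸ Z) with hY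
  by_contra hne
  have hord : orderOf Y = 9 := by
    have hd : orderOf Y ∣ 3 ^ 2 := hidx ▸ orderOf_dvd_natCard Y
    obtain ⟨i, hi, hi'⟩ := (Nat.dvd_prime_pow Nat.prime_three).1 hd
    interval_cases i
    · exact absurd (show Y ^ 3 = 1 by rw [orderOf_eq_one_iff.1 (show orderOf Y = 1 by simpa using hi'), one_pow]) hne
    · exact absurd (orderOf_dvd_iff_pow_eq_one.1 (by rw [hi', pow_one])) hne
    · simpa using hi'
  have htop : ∀ g : ↥(P : Subgroup G) ⧸ Z, g ∈ zpowers Y := fun g => by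
    have e : zpowers Y = ⊤ := eq_top_of_card_eq _ (by rw [Nat.card_zpowers, hord, hidx]; norm_num)
    exact e ▸ mem_top g
  obtain ⟨m, hm⟩ := mem_powers_iff_mem_zpowers.2 (htop (QuotientGroup.mk
    (⟨u * x * u⁻¹, mul_inv_mem_of_fix B.fixP hx⟩ : ↥(P : Subgroup G))))
  -- conjugation by `u` is a power map on the quotient
  have hstep : ∀ g ∈ zpowers h, u * g * u⁻¹ ∈ zpowers h := by
    rintro _ ⟨i, rfl⟩
    refine ⟨-i, ?_⟩
    show h ^ (-i) = u * h ^ i * u⁻¹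
    rw [← MulAut.conj_apply, map_zpow, MulAut.conj_apply, B.inv, inv_zpow, zpow_neg]
  have hpow : ∀ n : ℕ, ∀ hn : u ^ n * x * (u ^ n)⁻¹ ∈ (P : Subgroup G),
      (QuotientGroup.mk (⟨_, hn⟩ : ↥(P : Subgroup G)) : ↥(P : Subgroup G) ⧸ Z) = Y ^ m ^ n := by
    intro n
    induction n with
    | zero =>
      intro hn
      rw [show m ^ 0 = 1 from pow_zero m, pow_one, hY]
      congr 1
      exact Subtype.ext (by simp)
    | succ n ih =>
      intro hn
      have hn' : u ^ n * x * (u ^ n)⁻¹ ∈ (P : Subgroup G) :=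
        mul_inv_mem_of_fix (Sylow.smul_eq_iff_mem_normalizer.2
          (pow_mem (Sylow.smul_eq_iff_mem_normalizer.1 B.fixP) n)) hx
      have hd : (⟨x, hx⟩ ^ m ^ n : ↥(P : Subgroup G))⁻¹ * ⟨_, hn'⟩ ∈ Z := by
        rw [← QuotientGroup.eq]
        exact (QuotientGroup.mk_pow _ _ _).trans (ih hn').symm
      rw [hZ, mem_subgroupOf] at hd
      have hd' := hstep _ hd
      have e1 : (QuotientGroup.mk (⟨_, hn⟩ : ↥(P : Subgroup G)) : ↥(P : Subgroup G) ⧸ Z) =
          QuotientGroup.mk ((⟨u * x * u⁻¹, mul_inv_mem_of_fix B.fixP hx⟩ : ↥(P : Subgroup G)) ^ m ^ n) := by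
        symm
        rw [QuotientGroup.eq, hZ, mem_subgroupOf]
        convert hd' using 1
        simp only [Subgroup.coe_mul, Subgroup.coe_inv, Subgroup.coe_pow]
        rw [← MulAut.conj_apply, ← map_pow, MulAut.conj_apply, pow_succ']
        group
      rw [e1, QuotientGroup.mk_pow, ← hm, ← pow_mul, ← pow_succ']
  have hx4 : u ^ 4 * x * (u ^ 4)⁻¹ ∈ (P : Subgroup G) := by rw [B.four]; exact mul_inv_mem_of_fix B.zP hx
  have h8 : u ^ 8 * x * (u ^ 8)⁻¹ ∈ (P : Subgroup G) := by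
    rw [← B.order, pow_orderOf_eq_one]; simpa using hx
  have e8 := hpow 8 h8
  have e4 := hpow 4 hx4
  have hm8 : m ^ 8 ≡ 1 [MOD 9] := by
    rw [← hord]
    refine pow_eq_pow_iff_modEq.1 ?_
    rw [pow_one, ← e8, hY]
    congr 1
    exact Subtype.ext (by show u ^ 8 * x * (u ^ 8)⁻¹ = x; rw [← B.order, pow_orderOf_eq_one]; simp)
  have hm4 : m ^ 4 ≡ 1 [MOD 9] := by
    rw [Nat.ModEq, Nat.pow_mod] at hm8 ⊢
    have key : ∀ r < 9, r ^ 8 % 9 = 1 % 9 → r ^ 4 % 9 = 1 % 9 := by decide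
    exact key _ (Nat.mod_lt m (by norm_num)) hm8
  have hfix : (⟨x, hx⟩ : ↥(P : Subgroup G))⁻¹ * ⟨_, hx4⟩ ∈ Z := by
    rw [← QuotientGroup.eq, e4, ← hY]
    nth_rewrite 1 [← pow_one Y]
    exact pow_eq_pow_iff_modEq.2 (by rw [hord]; exact hm4.symm)
  rw [hZ, mem_subgroupOf, Subgroup.coe_mul, Subgroup.coe_inv] at hfix
  simp only [B.four] at hfix
  -- so `x` is centralized by `z`
  set v := x⁻¹ * (z * x * z⁻¹) with hv
  have hvv : z * v * z⁻¹ = v⁻¹ := by
    have hzi : z⁻¹ = z := inv_eq_of_mul_eq_one_right B.zz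
    rw [hv, hzi]
    calc z * (x⁻¹ * (z * x * z)) * z = z * x⁻¹ * z * x * (z * z) := by group
      _ = z * x⁻¹ * z * x := by rw [B.zz, mul_one]
      _ = (x⁻¹ * (z⁻¹ * x * z⁻¹))⁻¹ := by group
      _ = (x⁻¹ * (z * x * z))⁻¹ := by rw [hzi]
  have hv1 := B.eq_one_of_inverted hfix hvv
  rw [hv, inv_mul_eq_one] at hv1
  have hxC := B.fixed x hx (mem_centralizer_singleton_iff.2 (mul_inv_eq_iff_eq_mul.1 hv1.symm).symm)
  refine hne ?_
  rw [hY, ← QuotientGroup.mk_pow, QuotientGroup.eq_one_iff, hZ, mem_subgroupOf, Subgroup.coe_pow]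
  exact pow_mem hxC 3

set_option maxHeartbeats 1000000 in
/-- Labels with the action of the generator. -/
theorem exists_lab_aux (B : Base z P Q u h) {a : G} (ha : a ∈ (P : Subgroup G)) (ha1 : a ≠ 1)
    (hai : z * a * z⁻¹ = a⁻¹) :
    u * a * u⁻¹ ∉ zpowers h ∧
    ∃ (e : Fin 2) (L : Lab P e.1) (x : ℕ), (x = 4 ∨ x = 7) ∧
      (∀ i : Fin 27, u * ((L.equiv i : ↥(P : Subgroup G)) : G) * u⁻¹ =
        ((L.equiv ⟨sigG e.1 x i.1, sigG_lt _ _ _⟩ : ↥(P : Subgroup G)) : G)) ∧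
      ∃ c ∈ zpowers h, u * (u * a * u⁻¹) * u⁻¹ = a * (u * a * u⁻¹) ^ (x / 3) * c := by
  classical
  obtain ⟨hcube, hcomm⟩ := B.quotient_facts
  have hconjz : ∀ x y : G, z * (x * y) * z⁻¹ = z * x * z⁻¹ * (z * y * z⁻¹) := fun x y => by group
  have ha3 : a ^ 3 = 1 := B.eq_one_of_inverted (hcube a ha) (by
    rw [← MulAut.conj_apply, map_pow, MulAut.conj_apply, hai, inv_pow])
  set b := u * a * u⁻¹ with hb
  have hbP : b ∈ (P : Subgroup G) := mul_inv_mem_of_fix B.fixP ha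
  have hbi : z * b * z⁻¹ = b⁻¹ := by
    have e : z * u = u * z := B.uz.eq.symm
    have e2 : u⁻¹ * z⁻¹ = z⁻¹ * u⁻¹ := by rw [← mul_inv_rev, ← mul_inv_rev, e]
    calc z * b * z⁻¹ = z * u * a * (u⁻¹ * z⁻¹) := by rw [hb]; group
      _ = u * z * a * (z⁻¹ * u⁻¹) := by rw [e, e2]
      _ = u * (z * a * z⁻¹) * u⁻¹ := by group
      _ = b⁻¹ := by rw [hai, hb]; group
  have hb1 : b ≠ 1 := fun e => ha1 (by
    rw [show a = u⁻¹ * b * u by rw [hb]; group, e]; group)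
  have hb3 : b ^ 3 = 1 := by rw [hb, conj_pow, ha3, mul_one, mul_inv_cancel]
  have hah : a ∉ zpowers h := fun e => ha1 (B.eq_one_of_inverted e hai)
  have hbh : b ∉ zpowers h := fun e => hb1 (B.eq_one_of_inverted e hbi)
  have hza : z * a * z⁻¹ ≠ a := fun e => hah (B.fixed a ha
    (mem_centralizer_singleton_iff.2 (mul_inv_eq_iff_eq_mul.1 e).symm))
  have hnot : ∀ (i : ℕ), ∀ g ∈ zpowers h, b ≠ a ^ i * g := by
    intro i g hg e
    have hcg : Commute (a ^ i) g := by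
      obtain ⟨k, rfl⟩ := hg
      exact ((B.central a ha).pow_left i).zpow_right k
    have hgz : z * g * z⁻¹ = g := by
      obtain ⟨k, rfl⟩ := hg
      show z * h ^ k * z⁻¹ = h ^ k
      rw [← MulAut.conj_apply, map_zpow, MulAut.conj_apply, B.zh]
    have e1 : z * b * z⁻¹ = (a ^ i)⁻¹ * g := by
      rw [e, hconjz, hgz, ← MulAut.conj_apply, map_pow, MulAut.conj_apply, hai, inv_pow]
    rw [hbi, e, mul_inv_rev, ← (hcg.inv_left.inv_right).eq] at e1
    have hg1 : g = 1 := B.eq_one_of_inverted hg (by rw [hgz]; exact (mul_left_cancel e1).symm)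
    rw [hg1, mul_one] at e
    -- `u` normalises `⟨a⟩`
    have hn : ∀ n : ℕ, u ^ n * a * (u ^ n)⁻¹ = a ^ i ^ n := by
      intro n
      induction n with
      | zero => simp
      | succ n ih =>
        rw [← conj_pow_pow, ← hb, e, ← MulAut.conj_apply, map_pow, MulAut.conj_apply, ih, ← pow_mul, ← pow_succ]
    have ho : orderOf a = 3 := orderOf_eq_prime ha3 ha1
    refine hza ?_
    rw [← B.four, hn]
    conv_rhs => rw [← pow_one a]
    refine pow_eq_pow_iff_modEq.2 ?_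
    rw [ho]
    have h8 : i ^ 8 ≡ 1 [MOD 3] := by
      rw [← ho]
      refine pow_eq_pow_iff_modEq.1 ?_
      rw [pow_one, ← hn, show u ^ 8 = 1 by rw [← B.order, pow_orderOf_eq_one]]
      simp
    rw [Nat.ModEq, Nat.pow_mod] at h8 ⊢
    have key : ∀ r < 3, r ^ 8 % 3 = 1 % 3 → r ^ 4 % 3 = 1 % 3 := by decide
    exact key _ (Nat.mod_lt i (by norm_num)) h8
  refine ⟨hbh, ?_⟩
  -- the commutator
  set c' := a⁻¹ * b⁻¹ * a * b with hc'
  obtain ⟨e, c, hcZ, hc1, hba⟩ : ∃ (e : Fin 2) (c : G), c ∈ zpowers h ∧ c ≠ 1 ∧ b * a = a * b * c ^ (2 * e.1) := by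
    by_cases hne : c' = 1
    · refine ⟨0, h, mem_zpowers h, fun e => ?_, ?_⟩
      · have := B.three
        rw [e, orderOf_one] at this
        omega
      · have e1 : b * a * c' = a * b := by rw [hc']; group
        rw [hne, mul_one] at e1
        simpa using e1
    · refine ⟨1, c', hcomm a ha b hbP, hne, ?_⟩
      have e1 : b * a * c' = a * b := by rw [hc']; group
      obtain ⟨k, hk⟩ := hcomm a ha b hbP
      have hk' : h ^ k = c' := hk
      have e3 : c' ^ 3 = 1 := by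
        rw [← hk', ← zpow_natCast, ← zpow_mul, mul_comm, zpow_mul, zpow_natCast, B.h3, one_zpow]
      show b * a = a * b * c' ^ 2
      calc b * a = b * a * (c' * c' ^ 2) := by rw [← pow_succ', e3, mul_one]
        _ = a * b * c' ^ 2 := by rw [← mul_assoc, e1]
  have hc3 : c ^ 3 = 1 := by
    obtain ⟨k, rfl⟩ := hcZ
    show (h ^ k) ^ 3 = 1
    rw [← zpow_natCast, ← zpow_mul, mul_comm, zpow_mul, zpow_natCast, B.h3, one_zpow]
  have hcP : c ∈ (P : Subgroup G) := (zpowers_le.2 B.hP) hcZ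
  have hcx : ∀ x ∈ (P : Subgroup G), Commute c x := fun x hx => by
    obtain ⟨k, rfl⟩ := hcZ
    exact ((B.central x hx).zpow_right k).symm
  have hzc : z * c * z⁻¹ = c := by
    obtain ⟨k, rfl⟩ := hcZ
    show z * h ^ k * z⁻¹ = h ^ k
    rw [← MulAut.conj_apply, map_zpow, MulAut.conj_apply, B.zh]
  have huc : u * c * u⁻¹ = c⁻¹ := by
    obtain ⟨k, rfl⟩ := hcZ
    show u * h ^ k * u⁻¹ = (h ^ k)⁻¹
    rw [← MulAut.conj_apply, map_zpow, MulAut.conj_apply, B.inv, inv_zpow]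
  let F : Fin 27 → ↥(P : Subgroup G) := fun i => ⟨val a b c e.1 i.1,
    mul_mem (mul_mem (pow_mem ha _) (pow_mem hbP _)) (pow_mem hcP _)⟩
  have hF : ∀ i j, F (mulF e.1 i j) = F i * F j := fun i j =>
    Subtype.ext (val_mul ha3 hb3 hc3 hba (hcx a ha) (hcx b hbP) i j)
  have hinj : Function.Injective F := by
    have hker : ∀ i : Fin 27, val a b c e.1 i.1 = 1 → i = 0 := by
      intro i hi
      simp only [val] at hi
      have hck : c ^ kap e.1 i.1 ∈ zpowers h := pow_mem hcZ _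
      have hy : i.1 / 3 % 3 = 0 := by
        by_contra hy
        obtain ⟨r, hr⟩ : ∃ r, i.1 / 3 % 3 * r % 3 = 1 := ⟨i.1 / 3 % 3, by
          rcases show i.1 / 3 % 3 = 1 ∨ i.1 / 3 % 3 = 2 by omega with e | e <;> rw [e]⟩
        have e1 : b ^ (i.1 / 3 % 3) = (a ^ (i.1 % 3))⁻¹ * (c ^ kap e.1 i.1)⁻¹ := by
          rw [eq_mul_inv_iff_mul_eq]
          refine eq_inv_of_mul_eq_one_right ?_
          rw [← mul_assoc]
          exact hi
        have e2 : (a ^ (i.1 % 3))⁻¹ = a ^ (2 * (i.1 % 3)) := inv_eq_of_mul_eq_one_right (by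
          rw [← pow_add, show i.1 % 3 + 2 * (i.1 % 3) = 3 * (i.1 % 3) by ring, pow_mul, ha3, one_pow])
        have hcomm2 : Commute (a ^ (2 * (i.1 % 3))) (c ^ kap e.1 i.1)⁻¹ := ((hcx a ha).symm.pow_pow _ _).inv_right
        refine hnot (2 * (i.1 % 3) * r) (((c ^ kap e.1 i.1)⁻¹) ^ r) (pow_mem (inv_mem hck) r) ?_
        rw [pow_mul, ← hcomm2.mul_pow, ← e2, ← e1, ← pow_mul]
        conv_lhs => rw [← pow_one b, ← hr]
        conv_rhs => rw [← Nat.div_add_mod (i.1 / 3 % 3 * r) 3, pow_add, pow_mul, hb3, one_pow, one_mul]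
      rw [hy, pow_zero, mul_one] at hi
      have hx : i.1 % 3 = 0 := by
        by_contra hx
        have e1 : a ^ (i.1 % 3) ∈ zpowers h := by
          rw [mul_eq_one_iff_eq_inv.1 hi]; exact inv_mem hck
        refine hah ?_
        rcases show i.1 % 3 = 1 ∨ i.1 % 3 = 2 by omega with e | e <;> rw [e] at e1
        · simpa using e1
        · have := pow_mem e1 2
          rwa [← pow_mul, show 2 * 2 = 3 + 1 from rfl, pow_succ, ha3, one_mul] at this
      rw [hx, pow_zero, one_mul] at hi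
      have hk : kap e.1 i.1 % 3 = 0 := by
        have ho : orderOf c = 3 := orderOf_eq_prime hc3 hc1
        have := orderOf_dvd_of_pow_eq_one hi
        rw [ho] at this
        omega
      simp only [kap, hx, mul_zero, zero_mul, add_zero] at hk
      exact Fin.ext (by show i.1 = 0; omega)
    intro i j hij
    obtain ⟨k, hk⟩ : ∃ k : Fin 27, mulF e.1 k j = 0 ∧ (mulF e.1 k i = 0 → i = j) := by
      have key0 : ∀ (e : Fin 2) (j : Fin 27), invN j.1 < 27 ∧ mulN e.1 (invN j.1) j.1 = 0 := by decide +kernel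
      obtain ⟨h1, h2⟩ := key0 e j
      refine ⟨⟨invN j.1, h1⟩, Fin.ext h2, ?_⟩
      have key : ∀ (e : Fin 2) (i j : Fin 27), mulN e.1 (invN j.1) i.1 = 0 → i = j := by decide +kernel
      exact fun hh => key e i j (congrArg Fin.val hh)
    refine hk.2 (hker _ ?_)
    have e0 : (F (mulF e.1 k i) : ↥(P : Subgroup G)) = F 0 := by rw [hF, hij, ← hF, hk.1]
    exact (congrArg Subtype.val e0).trans (by simp [F, val, kap])
  have hbij : Function.Bijective F := (Nat.bijective_iff_injective_and_card F).2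
    ⟨hinj, by rw [B.card, Nat.card_eq_fintype_card, Fintype.card_fin]⟩
  let L : Lab P e.1 := ⟨Equiv.ofBijective F hbij, hF⟩
  have hL : ∀ i : Fin 27, ((L.equiv i : ↥(P : Subgroup G)) : G) = val a b c e.1 i.1 := fun i => rfl
  have hz' : ∀ i : Fin 27, z * val a b c e.1 i.1 * z⁻¹ = val a b c e.1 (zeta i.1) := by
    intro i
    obtain ⟨-, e1, e2, e3⟩ := kap_zeta e i
    have pm : ∀ (g : G), g ^ 3 = 1 → ∀ n : ℕ, g ^ n = g ^ (n % 3) := fun g hg n => by
      conv_lhs => rw [← Nat.div_add_mod n 3, pow_add, pow_mul, hg, one_pow, one_mul]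
    simp only [val]
    rw [e1, e2, pm c hc3 (kap e.1 (zeta i.1)), e3, ← pm a ha3 (2 * (i.1 % 3)), ← pm b hb3 (2 * (i.1 / 3 % 3)),
      ← pm c hc3 (kap e.1 i.1), hconjz, hconjz,
      ← MulAut.conj_apply, ← MulAut.conj_apply, ← MulAut.conj_apply, map_pow, map_pow, map_pow,
      MulAut.conj_apply, MulAut.conj_apply, MulAut.conj_apply, hai, hbi, hzc, pow_mul, pow_mul,
      show a⁻¹ = a ^ 2 from inv_eq_of_mul_eq_one_right (by rw [← pow_succ']; exact ha3),
      show b⁻¹ = b ^ 2 from inv_eq_of_mul_eq_one_right (by rw [← pow_succ']; exact hb3)]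
  obtain ⟨x, hx⟩ := L.equiv.surjective ⟨u * b * u⁻¹, mul_inv_mem_of_fix B.fixP hbP⟩
  have hxv : val a b c e.1 x.1 = u * b * u⁻¹ := (hL x).symm.trans (congrArg Subtype.val hx)
  have hx9 : x.1 < 9 := by
    obtain ⟨hlt, -⟩ := kap_zeta e x
    refine label_small e x ?_
    have e1 : val a b c e.1 (zeta x.1) * val a b c e.1 x.1 = 1 := by
      rw [← hz' x, hxv]
      have e : z * u = u * z := B.uz.eq.symm
      have e2 : u⁻¹ * z⁻¹ = z⁻¹ * u⁻¹ := by rw [← mul_inv_rev, ← mul_inv_rev, e]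
      calc z * (u * b * u⁻¹) * z⁻¹ * (u * b * u⁻¹) = z * u * b * (u⁻¹ * z⁻¹) * (u * b * u⁻¹) := by group
        _ = u * z * b * (z⁻¹ * u⁻¹) * (u * b * u⁻¹) := by rw [e, e2]
        _ = u * (z * b * z⁻¹) * b * u⁻¹ := by group
        _ = 1 := by rw [hbi]; group
    rw [← val_mul ha3 hb3 hc3 hba (hcx a ha) (hcx b hbP) ⟨_, hlt⟩ x] at e1
    have h0 : (F (mulF e.1 ⟨_, hlt⟩ x) : ↥(P : Subgroup G)) = F 0 :=
      Subtype.ext (e1.trans (by simp [F, val, kap]))
    exact congrArg Fin.val (hinj h0)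
  have hsig : ∀ i : Fin 27, u * val a b c e.1 i.1 * u⁻¹ = val a b c e.1 (sigG e.1 x.1 i.1) := by
    intro i
    obtain ⟨a1, a2, a3, -, -, -⟩ := pow_cases e ⟨i.1 % 3, Nat.mod_lt _ (by norm_num)⟩
    obtain ⟨-, -, -, c1, c2, c3⟩ := pow_cases e ⟨(3 - kap e.1 i.1 % 3) % 3, Nat.mod_lt _ (by norm_num)⟩
    simp only at a1 a2 a3 c1 c2 c3
    have hmul := val_mul (e := e) ha3 hb3 hc3 hba (hcx a ha) (hcx b hbP)
    have hA : 3 * (i.1 % 3) < 27 := by omega
    have hC' : 9 * ((3 - kap e.1 i.1 % 3) % 3) < 27 := by omega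
    have hY : ∀ y, (if y = 0 then 0 else if y = 1 then x.1 else mulN e.1 x.1 x.1) < 27 := fun y => by
      have := mulN_lt e.1 x.1 x.1
      split_ifs <;> omega
    have hm : val a b c e.1 (sigG e.1 x.1 i.1) = val a b c e.1 (3 * (i.1 % 3)) *
        val a b c e.1 (if i.1 / 3 % 3 = 0 then 0 else if i.1 / 3 % 3 = 1 then x.1 else mulN e.1 x.1 x.1) *
        val a b c e.1 (9 * ((3 - kap e.1 i.1 % 3) % 3)) := by
      have e1 := hmul ⟨_, hA⟩ ⟨_, hY (i.1 / 3 % 3)⟩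
      have e2 := hmul (mulF e.1 ⟨_, hA⟩ ⟨_, hY (i.1 / 3 % 3)⟩) ⟨_, hC'⟩
      rw [e1] at e2
      exact e2
    rw [hm]
    have v1 : val a b c e.1 (3 * (i.1 % 3)) = b ^ (i.1 % 3) := by simp [val, a1, a2, a3]
    have v3 : val a b c e.1 (9 * ((3 - kap e.1 i.1 % 3) % 3)) = (c⁻¹) ^ kap e.1 i.1 := by
      simp only [val, c1, c2, c3, pow_zero, one_mul]
      rw [inv_pow, eq_inv_iff_mul_eq_one, ← pow_add, ← orderOf_dvd_iff_pow_eq_one,
        orderOf_eq_prime hc3 hc1]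
      omega
    have v2 : val a b c e.1 (if i.1 / 3 % 3 = 0 then 0 else if i.1 / 3 % 3 = 1 then x.1 else mulN e.1 x.1 x.1) =
        (u * b * u⁻¹) ^ (i.1 / 3 % 3) := by
      rcases show i.1 / 3 % 3 = 0 ∨ i.1 / 3 % 3 = 1 ∨ i.1 / 3 % 3 = 2 by omega with e | e | e <;> rw [e]
      · simp [val, kap]
      · simpa using hxv
      · simp only [show (2 : ℕ) ≠ 0 by norm_num, show (2 : ℕ) ≠ 1 by norm_num, if_false]
        rw [pow_two, ← hxv]
        exact hmul x x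
    rw [v1, v2, v3]
    simp only [val]
    rw [← MulAut.conj_apply, map_mul, map_mul, map_pow, map_pow, map_pow, MulAut.conj_apply, MulAut.conj_apply,
      MulAut.conj_apply, huc, ← hb]
  have hroot : x.1 = 4 ∨ x.1 = 7 := by
    refine label_root e x hx9 ?_
    have v1 : val a b c e.1 1 = a := by simp [val, kap]
    have hs : ∀ n, n < 27 → u * val a b c e.1 n * u⁻¹ = val a b c e.1 (sigG e.1 x.1 n) := fun n hn => hsig ⟨n, hn⟩
    have hit : ∀ n : ℕ, u ^ n * a * (u ^ n)⁻¹ = val a b c e.1 ((sigG e.1 x.1)^[n] 1) ∧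
        (sigG e.1 x.1)^[n] 1 < 27 := by
      intro n
      induction n with
      | zero => simp [v1]
      | succ n ih =>
        rw [Function.iterate_succ_apply']
        refine ⟨?_, sigG_lt _ _ _⟩
        rw [← hs _ ih.2, ← ih.1, pow_succ']
        group
    have e4 := (hit 4).1
    rw [B.four, hai] at e4
    have v2 : val a b c e.1 2 = a⁻¹ := by
      simp [val, kap]
      exact (inv_eq_of_mul_eq_one_right (by rw [← pow_succ']; exact ha3)).symm
    have h0 : F ⟨(sigG e.1 x.1)^[4] 1, (hit 4).2⟩ = F ⟨2, by norm_num⟩ := Subtype.ext (e4.symm.trans v2.symm)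
    exact congrArg Fin.val (hinj h0)
  refine ⟨e, L, x.1, hroot, fun i => hsig i, c ^ kap e.1 x.1, pow_mem hcZ _, ?_⟩
  rw [← hxv]
  simp only [val]
  rcases hroot with e' | e' <;> rw [e'] <;> simp

/-- Labels on which the generator acts in the standard way. -/
theorem exists_frame (B : Base z P Q u h) :
    ∃ (u : G) (e : Fin 2) (L : Lab P e.1), Base z P Q u h ∧ ∀ i : Fin 27,
      u * ((L.equiv i : ↥(P : Subgroup G)) : G) * u⁻¹ =
        ((L.equiv ⟨sig e.1 i.1, mulN_lt _ _ _⟩ : ↥(P : Subgroup G)) : G) := by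
  obtain ⟨a, ha, ha1, hai⟩ := B.exists_inverted
  obtain ⟨hbh, e, L, x, hx, hconj, c, hc, hc2⟩ := B.exists_lab_aux ha ha1 hai
  obtain ⟨-, e', L', x', hx', hconj', c', hc', hc2'⟩ := B.symm.exists_lab_aux ha ha1 hai
  have hfin : ∀ (u : G) (e : Fin 2) (L : Lab P e.1), Base z P Q u h → ∀ x, x = 4 → (∀ i : Fin 27,
      u * ((L.equiv i : ↥(P : Subgroup G)) : G) * u⁻¹ =
        ((L.equiv ⟨sigG e.1 x i.1, sigG_lt _ _ _⟩ : ↥(P : Subgroup G)) : G)) →
      ∃ (u : G) (e : Fin 2) (L : Lab P e.1), Base z P Q u h ∧ ∀ i : Fin 27,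
        u * ((L.equiv i : ↥(P : Subgroup G)) : G) * u⁻¹ =
          ((L.equiv ⟨sig e.1 i.1, mulN_lt _ _ _⟩ : ↥(P : Subgroup G)) : G) := by
    rintro u e L B' x rfl hcj
    refine ⟨u, e, L, B', fun i => (hcj i).trans ?_⟩
    congr 2
    exact Fin.ext (sigG_four e i)
  rcases hx with rfl | rfl
  · exact hfin u e L B 4 rfl hconj
  rcases hx' with rfl | rfl
  · exact hfin u⁻¹ e' L' B.symm 4 rfl hconj'
  exfalso
  rw [show (7 : ℕ) / 3 = 2 from rfl] at hc2 hc2'
  set b := u * a * u⁻¹ with hb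
  set b' := u⁻¹ * a * u⁻¹⁻¹ with hb'
  have hU : ∀ p q : G, u * (u * (p * q) * u⁻¹) * u⁻¹ = u * (u * p * u⁻¹) * u⁻¹ * (u * (u * q * u⁻¹) * u⁻¹) :=
    fun p q => by group
  have hfixh : ∀ g ∈ zpowers h, u * (u * g * u⁻¹) * u⁻¹ = g := by
    rintro _ ⟨k, rfl⟩
    have e1 : ∀ v : G, u * v * u⁻¹ = MulAut.conj u v := fun v => rfl
    show u * (u * h ^ k * u⁻¹) * u⁻¹ = h ^ k
    rw [e1, e1, map_zpow, map_zpow, ← e1, ← e1, B.inv,
      show u * h⁻¹ * u⁻¹ = (u * h * u⁻¹)⁻¹ by group, B.inv, inv_inv]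
  have hbb : u * (u * b' * u⁻¹) * u⁻¹ = b := by rw [hb', hb]; group
  have key : a = a * b ^ 2 * c * b ^ 2 * c' := by
    calc a = u * (u * (u⁻¹ * b' * u⁻¹⁻¹) * u⁻¹) * u⁻¹ := by rw [hb']; group
      _ = u * (u * a * u⁻¹) * u⁻¹ * (u * (u * (b' ^ 2) * u⁻¹) * u⁻¹) * (u * (u * c' * u⁻¹) * u⁻¹) := by
        rw [hc2', hU, hU]
      _ = a * b ^ 2 * c * b ^ 2 * c' := by
        rw [hfixh c' hc', show u * (u * b' ^ 2 * u⁻¹) * u⁻¹ = (u * (u * b' * u⁻¹) * u⁻¹) ^ 2 by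
          rw [pow_two, pow_two, hU], hbb, ← hb, hc2]
  have hcb : Commute c b := by
    obtain ⟨k, rfl⟩ := hc
    exact ((B.central b (mul_inv_mem_of_fix B.fixP ha)).zpow_right k).symm
  have e2 : b ^ 2 * b ^ 2 * (c * c') = 1 := by
    have : a * 1 = a * (b ^ 2 * b ^ 2 * (c * c')) := by
      rw [mul_one]
      calc a = a * b ^ 2 * c * b ^ 2 * c' := key
        _ = a * b ^ 2 * (c * b ^ 2) * c' := by group
        _ = _ := by rw [(hcb.pow_right 2).eq]; group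
    exact (mul_left_cancel this).symm
  have hb3 : b ^ 3 = 1 := by
    have ha3 : a ^ 3 = 1 := B.eq_one_of_inverted (B.quotient_facts.1 a ha) (by
      rw [← MulAut.conj_apply, map_pow, MulAut.conj_apply, hai, inv_pow])
    rw [hb, conj_pow, ha3, mul_one, mul_inv_cancel]
  refine hbh ?_
  have e3 : b ^ 2 * b ^ 2 = b := by
    rw [← pow_add, show 2 + 2 = 3 + 1 from rfl, pow_succ, hb3, one_mul]
  rw [e3, mul_eq_one_iff_eq_inv] at e2
  rw [e2]
  exact inv_mem (mul_mem hc hc')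

end Base

end Cfsg.Lib.LenSeven.UThree
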