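import Cfsg.Agent.Lib.LenEight.Basic
import Cfsg.Agent.Lib.Local.FixedOrderClosed

/-!
# The local structure of a simple group of order `6048` at an involution
-/

set_option autoImplicit false
set_option linter.style.haveILetI false
set_option linter.unusedSectionVars false

namespace Cfsg.Lib.LenSeven.UThree

open Subgroup LenEight

variable {G : Type*} [Group G]

/-- What is known about the group and the centralizer of an involution. -/
structure Hyp (G : Type*) [Group G] (z : G) : Prop where
  card : Nat.card G = 6048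
  simple : IsSimpleGroup G
  hz : orderOf z = 2
  cardC : Nat.card (centralizer ({z} : Set G)) = 96
  hone : ∀ i : G, orderOf i = 2 → IsConj z i
  other : ∃ b ∈ centralizer ({z} : Set G), orderOf b = 2 ∧ b ≠ z
  four : ∃ w : G, orderOf w = 4 ∧ w * w = z ∧ ∀ c ∈ centralizer ({z} : Set G), c * w = w * c
  invThree : ∀ b ∈ centralizer ({z} : Set G), orderOf b = 2 → b ≠ z →
    ∀ a ∈ centralizer ({z} : Set G), orderOf a = 3 → b * a ≠ a * b
  core : ∃ N : Subgroup G, N ≤ centralizer ({z} : Set G) ∧ Nat.card N = 24 ∧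
    (∀ M : Subgroup N, M.index ≠ 2) ∧ z ∈ N ∧
    ∀ c ∈ centralizer ({z} : Set G), ∀ n ∈ N, c * n * c⁻¹ ∈ N
  aut : ∀ K : Subgroup G, K ≤ centralizer ({z} : Set G) → Nat.card K = 32 → IsPGroup 2 (MulAut K)

variable [Finite G] {z : G}

theorem zpow_cases_two {x : G} (hx : x * x = 1) {y : G} (hy : y ∈ zpowers x) : y = 1 ∨ y = x := by
  obtain ⟨k, rfl⟩ := hy
  rcases Int.even_or_odd' k with ⟨r, rfl | rfl⟩
  · left; simp [zpow_mul, zpow_two, pow_two, hx]
  · right; simp [zpow_add, zpow_mul, zpow_two, pow_two, hx]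

theorem eq_of_fixed_prime {a z : G} (h : z * a * z⁻¹ = a⁻¹) (hc : z * a * z⁻¹ = a) {p : ℕ} [Fact p.Prime]
    (hp : p ≠ 2) (ha : a ^ p = 1) : a = 1 := by
  have h2 : a ^ 2 = 1 := by
    rw [h] at hc
    rw [pow_two]
    nth_rewrite 2 [← hc]
    exact mul_inv_cancel a
  have hg : a ^ Nat.gcd 2 p = 1 := pow_gcd_eq_one.2 ⟨h2, ha⟩
  rwa [(Nat.coprime_primes Nat.prime_two (Fact.out : p.Prime)).2 hp.symm, pow_one] at hg

namespace Hyp

variable (H : Hyp G z)

set_option quotPrecheck false in
local notation "C" => centralizer ({z} : Set G)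

include H

theorem zz : z * z = 1 := by rw [← pow_two, ← H.hz, pow_orderOf_eq_one]

theorem z_ne : z ≠ 1 := fun h => by
  have := H.hz
  rw [h, orderOf_one] at this
  omega

theorem three_mem_core {N : Subgroup G} (hN : N ≤ C) (h24 : Nat.card N = 24)
    (hn : ∀ c ∈ C, ∀ n ∈ N, c * n * c⁻¹ ∈ N) {a : G} (ha : a ∈ C) (h3 : orderOf a = 3) : a ∈ N := by
  haveI : (N.subgroupOf C).Normal := ⟨fun x hx g => hn g g.2 x hx⟩
  have hidx : (N.subgroupOf C).index = 4 := by
    have := card_mul_index (N.subgroupOf C)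
    rw [Nat.card_congr (subgroupOfEquivOfLe hN).toEquiv, h24, H.cardC] at this
    omega
  have h4 := pow_index_mem (N.subgroupOf C) ⟨a, ha⟩
  rw [hidx, mem_subgroupOf, Subgroup.coe_pow] at h4
  have : a ^ 4 = a := by
    rw [show (4 : ℕ) = 3 + 1 from rfl, pow_succ, ← h3, pow_orderOf_eq_one, one_mul]
  rwa [this] at h4

/-- Two subgroups of order three of the centralizer generate a subgroup containing `z`. -/
theorem z_mem_closure {a b : G} (ha : a ∈ C) (hb : b ∈ C) (ha3 : orderOf a = 3) (hb3 : orderOf b = 3)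
    (hab : b ∉ zpowers a) : z ∈ closure ({a, b} : Set G) := by
  haveI : Fact (Nat.Prime 3) := ⟨Nat.prime_three⟩
  obtain ⟨N, hNC, h24, hno, hzN, hn⟩ := H.core
  set K := closure ({a, b} : Set G) with hK
  have hKN : K ≤ N := (closure_le _).2 (Set.insert_subset (H.three_mem_core hNC h24 hn ha ha3)
    (Set.singleton_subset_iff.2 (H.three_mem_core hNC h24 hn hb hb3)))
  have haK : a ∈ K := subset_closure (Set.mem_insert _ _)
  have hbK : b ∈ K := subset_closure (Set.mem_insert_of_mem _ (Set.mem_singleton b))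
  have hd : Nat.card K ∣ 24 := h24 ▸ card_dvd_of_le hKN
  have h3 : 3 ∣ Nat.card K := by
    rw [← ha3, ← Nat.card_zpowers]
    exact card_dvd_of_le (zpowers_le.2 haK)
  let a' : K := ⟨a, haK⟩
  let b' : K := ⟨b, hbK⟩
  have hP : ∀ x : K, orderOf (x : G) = 3 → ∃ P : Sylow 3 K, x ∈ (P : Subgroup K) ∧
      (P : Subgroup K) = zpowers x := by
    intro x hx
    have hx' : orderOf x = 3 := by rw [← Subgroup.orderOf_coe, hx]
    obtain ⟨P, hP⟩ := (IsPGroup.of_card (n := 1) (by rw [Nat.card_zpowers, hx', pow_one]) :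
      IsPGroup 3 (zpowers x)).exists_le_sylow
    refine ⟨P, hP (mem_zpowers x), (eq_of_le_of_card_ge hP ?_).symm⟩
    obtain ⟨j, hj⟩ := P.2.exists_card_eq
    have h9 : 3 ^ j ∣ 24 := hj ▸ (card_subgroup_dvd_card _).trans hd
    rw [hj, Nat.card_zpowers, hx']
    rcases j with _ | _ | j
    · norm_num
    · norm_num
    · exfalso
      have : 3 ^ 2 ∣ 24 := (pow_dvd_pow 3 (by omega)).trans h9
      norm_num at this
  obtain ⟨Pa, -, hPa⟩ := hP a' ha3
  obtain ⟨Pb, hbPb, -⟩ := hP b' hb3
  have hn3 : Nat.card (Sylow 3 K) = 4 := by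
    have hm := card_sylow_modEq_one 3 K
    have hne : Nat.card (Sylow 3 K) ≠ 1 := fun h => by
      haveI := (Nat.card_eq_one_iff_unique.1 h).1
      have : b' ∈ zpowers a' := by
        rw [← hPa, Subsingleton.elim Pa Pb]
        exact hbPb
      obtain ⟨k, hk⟩ := this
      exact hab ⟨k, by simpa [a', b'] using congrArg Subtype.val hk⟩
    have h8 : Nat.card (Sylow 3 K) ∣ 8 := by
      have h1 : Nat.card (Sylow 3 K) ∣ 24 := (Pa.card_dvd_index.trans (index_dvd_card _)).trans hd
      have hcop : Nat.Coprime (Nat.card (Sylow 3 K)) 3 := by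
        rw [Nat.coprime_comm, Nat.prime_three.coprime_iff_not_dvd]
        intro h3'
        unfold Nat.ModEq at hm
        omega
      exact hcop.dvd_of_dvd_mul_right (show Nat.card (Sylow 3 K) ∣ 8 * 3 by simpa using h1)
    have := Nat.le_of_dvd (by norm_num) h8
    unfold Nat.ModEq at hm
    interval_cases hcs : Nat.card (Sylow 3 K) <;> omega
  have h12 : 12 ∣ Nat.card K := by
    have h1 : 4 ∣ Nat.card K := hn3 ▸ (Pa.card_dvd_index.trans (index_dvd_card _))
    exact Nat.Coprime.mul_dvd_of_dvd_of_dvd (by norm_num : Nat.Coprime 4 3) h1 h3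
  have hcardK : Nat.card K = 24 := by
    obtain ⟨c, hc⟩ := h12
    have := Nat.le_of_dvd (by norm_num) hd
    by_contra hne
    have hc1 : c = 1 := by
      rcases c with _ | _ | _ | c
      · simp at hc; exact absurd hc Nat.card_pos.ne'
      · rfl
      · omega
      · omega
    refine hno (K.subgroupOf N) ?_
    have h2 := card_mul_index (K.subgroupOf N)
    rw [Nat.card_congr (subgroupOfEquivOfLe hKN).toEquiv, hc, hc1, h24] at h2
    omega
  rw [eq_of_le_of_card_ge hKN (by rw [hcardK, h24])]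
  exact hzN

theorem exists_three : ∃ h ∈ C, orderOf h = 3 := by
  haveI : Fact (Nat.Prime 3) := ⟨Nat.prime_three⟩
  obtain ⟨x, hx⟩ := exists_prime_orderOf_dvd_card' 3 (show 3 ∣ Nat.card C by rw [H.cardC]; norm_num)
  exact ⟨x, x.2, by rw [Subgroup.orderOf_coe, hx]⟩

/-- The four subgroups of order three. -/
theorem card_sylow_three : Nat.card (Sylow 3 C) = 4 ∧ ∀ P : Sylow 3 C, Nat.card (P : Subgroup C) = 3 := by
  haveI : Fact (Nat.Prime 3) := ⟨Nat.prime_three⟩
  have hP : ∀ P : Sylow 3 C, Nat.card (P : Subgroup C) = 3 := by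
    intro P
    rw [P.card_eq_multiplicity, H.cardC, show (96 : ℕ) = 2 ^ 5 * 3 ^ 1 by norm_num,
      Nat.factorization_mul (by norm_num) (by norm_num), Finsupp.add_apply,
      Nat.Prime.factorization_pow Nat.prime_two, Finsupp.single_eq_of_ne (by norm_num),
      Nat.Prime.factorization_pow Nat.prime_three, Finsupp.single_eq_same, zero_add, pow_one]
  refine ⟨?_, hP⟩
  obtain ⟨N, hNC, h24, hno, hzN, hn⟩ := H.core
  set M := N.subgroupOf C with hM
  haveI : M.Normal := ⟨fun x hx g => hn g g.2 x hx⟩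
  have hMc : Nat.card M = 24 := by rw [hM, Nat.card_congr (subgroupOfEquivOfLe hNC).toEquiv, h24]
  obtain ⟨P⟩ : Nonempty (Sylow 3 C) := inferInstance
  have hle : ∀ Q : Sylow 3 C, (Q : Subgroup C) ≤ M := by
    intro Q q hq
    by_cases h1 : q = 1
    · rw [h1]; exact one_mem _
    have ho : orderOf (q : G) = 3 := by
      rw [Subgroup.orderOf_coe]
      have := orderOf_dvd_natCard (⟨q, hq⟩ : (Q : Subgroup C))
      rw [hP Q, Subgroup.orderOf_mk] at this
      exact ((Nat.dvd_prime Nat.prime_three).1 this).resolve_left (by rw [orderOf_eq_one_iff]; exact h1)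
    exact H.three_mem_core hNC h24 hn q.2 ho
  have h8 : Nat.card (Sylow 3 C) ∣ 32 := by
    have hi := P.card_dvd_index
    have := card_mul_index (P : Subgroup C)
    rw [hP P, H.cardC] at this
    rwa [show (P : Subgroup C).index = 32 by omega] at hi
  have hm := card_sylow_modEq_one 3 C
  have hle32 := Nat.le_of_dvd (by norm_num) h8
  unfold Nat.ModEq at hm
  have hne1 : Nat.card (Sylow 3 C) ≠ 1 := fun h => by
    haveI := (Nat.card_eq_one_iff_unique.1 h).1
    haveI : (P : Subgroup C).Normal := P.normal_of_subsingleton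
    haveI : ((P : Subgroup C).subgroupOf M).Normal := inferInstance
    have hidx : ((P : Subgroup C).subgroupOf M).index = 8 := by
      have h1 := card_mul_index ((P : Subgroup C).subgroupOf M)
      rw [Nat.card_congr (subgroupOfEquivOfLe (hle P)).toEquiv, hP P, hMc] at h1
      omega
    haveI : Fact (Nat.Prime 2) := ⟨Nat.prime_two⟩
    obtain ⟨T, hT⟩ := Sylow.exists_subgroup_card_pow_prime (G := M ⧸ (P : Subgroup C).subgroupOf M) 2
      (n := 2) (by rw [← index_eq_card, hidx]; norm_num)
    refine hno ((T.comap (QuotientGroup.mk' ((P : Subgroup C).subgroupOf M))).map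
      (subgroupOfEquivOfLe hNC).toMonoidHom) ?_
    rw [index_map_of_bijective (subgroupOfEquivOfLe hNC).bijective,
      index_comap_of_surjective _ (QuotientGroup.mk'_surjective _)]
    have := card_mul_index T
    rw [hT, ← index_eq_card, hidx] at this
    omega
  have hne16 : Nat.card (Sylow 3 C) ≠ 16 := by
    intro h16
    -- the Sylow subgroups of `C` are those of `M`
    have hle' : Nat.card (Sylow 3 C) ≤ Nat.card (Sylow 3 M) :=
      Nat.card_le_card_of_injective (fun Q => Q.subtype (hle Q)) (fun Q R e => Sylow.ext (by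
        have := congrArg (fun T : Sylow 3 M => (T : Subgroup M)) e
        simp only [Sylow.coe_subtype] at this
        have h1 := subgroupOf_inj.1 this
        rwa [inf_eq_left.2 (hle Q), inf_eq_left.2 (hle R)] at h1))
    obtain ⟨Q⟩ : Nonempty (Sylow 3 M) := inferInstance
    have hd := Q.card_dvd_index
    have hi := card_mul_index (Q : Subgroup M)
    rw [hMc] at hi
    have h3' : 3 ≤ Nat.card (Q : Subgroup M) := by
      have := Q.dvd_card_of_dvd_card (p := 3) (by rw [hMc]; norm_num)
      exact Nat.le_of_dvd Nat.card_pos this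
    have hle8 : (Q : Subgroup M).index ≤ 8 := by
      by_contra hgt
      push Not at hgt
      nlinarith
    have := Nat.le_of_dvd (Nat.pos_of_ne_zero index_ne_zero_of_finite) hd
    omega
  obtain ⟨a, -, ha⟩ := (Nat.dvd_prime_pow Nat.prime_two).1 (show Nat.card (Sylow 3 C) ∣ 2 ^ 5 from h8)
  have ha5 : a ≤ 5 := by
    by_contra hgt
    have := Nat.pow_le_pow_right (n := 2) two_pos (show 6 ≤ a by omega)
    omega
  interval_cases a <;> omega

/-- The centralizer of `h` in the centralizer of `z`. -/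
theorem cent_three {h : G} (hh : h ∈ C) (h3 : orderOf h = 3) :
    Nat.card ↥(C ⊓ centralizer ({h} : Set G)) = 12 ∧
      Nat.card ↥(C ⊓ normalizer ((zpowers h : Subgroup G) : Set G)) = 24 := by
  haveI : Fact (Nat.Prime 3) := ⟨Nat.prime_three⟩
  haveI : Fact (Nat.Prime 2) := ⟨Nat.prime_two⟩
  obtain ⟨w, hw, hww, hwc⟩ := H.four
  have hwC : w ∈ C := mem_centralizer_singleton_iff.2 (by rw [← hww, mul_assoc])
  obtain ⟨hn4, hP3⟩ := H.card_sylow_three
  let x : C := ⟨h, hh⟩
  have hxo : orderOf x = 3 := by rw [Subgroup.orderOf_mk, h3]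
  obtain ⟨P, hP⟩ := (IsPGroup.of_card (n := 1) (by rw [Nat.card_zpowers, hxo, pow_one]) :
    IsPGroup 3 (zpowers x)).exists_le_sylow
  have hPx : (P : Subgroup C) = zpowers x :=
    (eq_of_le_of_card_ge hP (by rw [hP3, Nat.card_zpowers, hxo])).symm
  have hN24 : Nat.card (normalizer ((P : Subgroup C) : Set C)) = 24 := by
    have := card_mul_index (normalizer ((P : Subgroup C) : Set C))
    have hi : (normalizer ((P : Subgroup C) : Set C)).index = 4 := P.card_eq_index_normalizer.symm.trans hn4
    rw [hi, H.cardC] at this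
    omega
  have hmapN : (C ⊓ normalizer ((zpowers h : Subgroup G) : Set G)) =
      (normalizer ((P : Subgroup C) : Set C)).map (Subgroup.subtype C) := by
    rw [hPx]
    ext g
    constructor
    · rintro ⟨hg, hgn⟩
      refine ⟨⟨g, hg⟩, mem_normalizer_iff.2 fun y => ?_, rfl⟩
      have key : ∀ y : C, y ∈ zpowers x ↔ (y : G) ∈ zpowers h := fun y =>
        ⟨fun ⟨k, hk⟩ => ⟨k, by simpa [x] using congrArg Subtype.val hk⟩,
          fun ⟨k, hk⟩ => ⟨k, Subtype.ext (by simpa [x] using hk)⟩⟩
      rw [key, key]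
      exact mem_normalizer_iff.1 hgn y
    · rintro ⟨g, hg, rfl⟩
      refine ⟨g.2, mem_normalizer_iff.2 fun y => ⟨fun hy => ?_, fun hy => ?_⟩⟩
      · obtain ⟨k, rfl⟩ := hy
        have := (mem_normalizer_iff.1 hg (x ^ k)).1 (zpow_mem (mem_zpowers x) k)
        obtain ⟨j, hj⟩ := this
        exact ⟨j, by simpa [x] using congrArg Subtype.val hj⟩
      · obtain ⟨k, hk⟩ := hy
        have hyC : y ∈ C := by
          have e : y = (g : G)⁻¹ * (h ^ k) * g := by rw [show h ^ k = (g : G) * y * (g : G)⁻¹ from hk]; group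
          rw [e]
          exact mul_mem (mul_mem (inv_mem g.2) (zpow_mem hh k)) g.2
        obtain ⟨j, hj⟩ := (mem_normalizer_iff.1 hg ⟨y, hyC⟩).2 ⟨k, Subtype.ext (by simpa [x] using hk)⟩
        exact ⟨j, by simpa [x] using congrArg Subtype.val hj⟩
  refine ⟨?_, by rw [hmapN, card_map_of_injective (Subgroup.subtype_injective _), hN24]⟩
  set D := C ⊓ centralizer ({h} : Set G) with hD
  set Nh := C ⊓ normalizer ((zpowers h : Subgroup G) : Set G) with hNh
  have hNh24 : Nat.card Nh = 24 := by rw [hmapN, card_map_of_injective (Subgroup.subtype_injective _), hN24]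
  have hDN : D ≤ Nh := inf_le_inf_left _ (by
    intro g hg
    exact le_normalizer_zpowers (H := centralizer ({h} : Set G))
      (fun u hu => mem_centralizer_singleton_iff.1 hu) hg)
  have hd : Nat.card D ∣ 24 := hNh24 ▸ card_dvd_of_le hDN
  have hwh : Commute w h := (hwc h hh).symm
  have h12 : 12 ∣ Nat.card D := by
    have h4 : 4 ∣ Nat.card D := by
      rw [← hw, ← Nat.card_zpowers]
      exact card_dvd_of_le (zpowers_le.2 ⟨hwC, mem_centralizer_singleton_iff.2 hwh.eq⟩)
    have h3' : 3 ∣ Nat.card D := by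
      rw [← h3, ← Nat.card_zpowers]
      exact card_dvd_of_le (zpowers_le.2 ⟨hh, mem_centralizer_singleton_iff.2 rfl⟩)
    exact Nat.Coprime.mul_dvd_of_dvd_of_dvd (by norm_num : Nat.Coprime 4 3) h4 h3'
  by_contra hne
  have hD24 : Nat.card D = 24 := by
    obtain ⟨c, hc⟩ := h12
    have := Nat.le_of_dvd (by norm_num) hd
    rcases c with _ | _ | _ | c
    · simp at hc; exact absurd hc Nat.card_pos.ne'
    · omega
    · omega
    · omega
  have hDeq : D = Nh := eq_of_le_of_card_ge hDN (by rw [hD24, hNh24])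
  have hcentral : normalizer ((P : Subgroup C) : Set C) ≤ centralizer ((P : Subgroup C) : Set C) := by
    intro g hg
    have hgD : (g : G) ∈ D := hDeq ▸ hmapN ▸ ⟨g, hg, rfl⟩
    rw [mem_centralizer_iff, hPx]
    rintro _ ⟨k, rfl⟩
    have hgh : Commute (g : G) h := mem_centralizer_singleton_iff.1 hgD.2
    exact Subtype.ext (by simpa [x] using (hgh.zpow_right k).eq.symm)
  have hcomp := MonoidHom.ker_transferSylow_isComplement' P hcentral
  set K := (MonoidHom.transferSylow P hcentral).ker with hK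
  have hKc : Nat.card K = 32 := by
    have := hcomp.card_mul
    rw [hP3, H.cardC] at this
    omega
  -- `h` centralizes the normal Sylow subgroup
  obtain ⟨b, hbC, hb, hbz⟩ := H.other
  haveI : K.Normal := MonoidHom.normal_ker _
  have hbK : (⟨b, hbC⟩ : C) ∈ K := by
    have hidx : K.index = 3 := by
      have := card_mul_index K
      rw [hKc, H.cardC] at this
      omega
    have h3' := pow_index_mem K (⟨b, hbC⟩ : C)
    rw [hidx, pow_succ, pow_two] at h3'
    have hbb : (⟨b, hbC⟩ : C) * ⟨b, hbC⟩ = 1 := Subtype.ext (by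
      show b * b = 1
      rw [← pow_two, ← hb, pow_orderOf_eq_one])
    rwa [hbb, one_mul] at h3'
  have hAut : IsPGroup 2 (MulAut (K.map (Subgroup.subtype C))) :=
    H.aut _ (map_subtype_le _) (by rw [card_map_of_injective (Subgroup.subtype_injective _), hKc])
  have hAutK : IsPGroup 2 (MulAut K) :=
    hAut.of_equiv (MulAut.congr (K.equivMapOfInjective _ (Subgroup.subtype_injective C)).symm)
  let act : C →* MulAut K := MulAut.conjNormal
  have h1 : orderOf (act x) ∣ 3 := hxo ▸ orderOf_map_dvd act x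
  obtain ⟨j, hj⟩ := IsPGroup.iff_orderOf.1 hAutK (act x)
  have hone : orderOf (act x) = 1 := by
    rcases (Nat.dvd_prime Nat.prime_three).1 h1 with e | e
    · exact e
    · exfalso
      rw [e] at hj
      rcases j with _ | j
      · omega
      · rw [pow_succ] at hj; omega
  have hfix := congrArg (fun y : K => ((y : C) : G))
    (DFunLike.congr_fun (orderOf_eq_one_iff.1 hone) ⟨⟨b, hbC⟩, hbK⟩)
  simp only [act, MulAut.conjNormal_apply, MulAut.one_apply, Subgroup.coe_mul, Subgroup.coe_inv, x] at hfix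
  exact H.invThree b hbC hb hbz h hh h3 (mul_inv_eq_iff_eq_mul.1 hfix).symm

end Hyp

end Cfsg.Lib.LenSeven.UThree
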