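import Cfsg.Agent.Lib.LenSeven.UThree.Frame
import Cfsg.Agent.Lib.Recog.G2Two.Points

/-!
# The action of a simple group of order `6048` on twenty-eight points
-/

set_option autoImplicit false
set_option linter.style.haveILetI false
set_option linter.unusedSectionVars false

namespace Cfsg.Lib.LenSeven.UThree

open Subgroup MulAction Cfsg.Lib.Recog.G2Two

/-- The setting on twenty-eight points. -/
structure Setting {G : Type*} [Group G] [Finite G] [Fact (Nat.Prime 3)] (z : G) (P Q : Sylow 3 G) (u h : G)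
    (e : ℕ) where
  base : Base z P Q u h
  lab : Lab P e
  he : e < 2
  conj : ∀ i : Fin 27, u * ((lab.equiv i : ↥(P : Subgroup G)) : G) * u⁻¹ =
    ((lab.equiv ⟨sig e i.1, mulN_lt _ _ _⟩ : ↥(P : Subgroup G)) : G)
  faith : ∀ g : G, (∀ R : Sylow 3 G, g • R = R) → g = 1

variable {G : Type*} [Group G] [Finite G] [Fact (Nat.Prime 3)] {z u h : G} {P Q : Sylow 3 G} {e : ℕ}

namespace Setting

/-- The point with a given label. -/
noncomputable def point (d : Setting z P Q u h e) (i : Fin 28) : Sylow 3 G :=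
  if hi : i.1 < 27 then ((d.lab.equiv ⟨i.1, hi⟩ : ↥(P : Subgroup G)) : G) • Q else P

theorem point_lt (d : Setting z P Q u h e) {i : Fin 28} (hi : i.1 < 27) :
    d.point i = ((d.lab.equiv ⟨i.1, hi⟩ : ↥(P : Subgroup G)) : G) • Q := dif_pos hi

theorem point_last (d : Setting z P Q u h e) {i : Fin 28} (hi : ¬ i.1 < 27) : d.point i = P := dif_neg hi

theorem lab_fix (d : Setting z P Q u h e) (c : Fin 27) : ((d.lab.equiv c : ↥(P : Subgroup G)) : G) • P = P :=
  Sylow.smul_eq_iff_mem_normalizer.2 (le_normalizer (d.lab.equiv c).2)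

theorem point_ne (d : Setting z P Q u h e) {i : Fin 28} (hi : i.1 < 27) : d.point i ≠ P := by
  rw [d.point_lt hi]
  intro e'
  exact d.base.ne (smul_left_cancel _ (e'.trans (d.lab_fix _).symm))

theorem point_bijective (d : Setting z P Q u h e) : Function.Bijective d.point := by
  refine (Nat.bijective_iff_injective_and_card _).2 ⟨fun i j e' => ?_, by
    rw [d.base.n28, Nat.card_eq_fintype_card, Fintype.card_fin]⟩
  by_cases hi : i.1 < 27 <;> by_cases hj : j.1 < 27
  · rw [d.point_lt hi, d.point_lt hj] at e'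
    have e2 := d.base.free _ (mul_mem (inv_mem (d.lab.equiv ⟨j.1, hj⟩).2) (d.lab.equiv ⟨i.1, hi⟩).2)
      (by rw [mul_smul, e', inv_smul_smul])
    have e3 : d.lab.equiv ⟨j.1, hj⟩ = d.lab.equiv ⟨i.1, hi⟩ := Subtype.ext (inv_mul_eq_one.1 e2)
    exact Fin.ext (congrArg Fin.val (d.lab.equiv.injective e3).symm :)
  · exact absurd (e'.trans (d.point_last hj)) (d.point_ne hi)
  · exact absurd (e'.symm.trans (d.point_last hi)) (d.point_ne hj)
  · exact Fin.ext (by omega)

theorem point_zero (d : Setting z P Q u h e) : d.point ⟨0, by norm_num⟩ = Q := by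
  rw [d.point_lt (by norm_num : (0 : ℕ) < 27)]
  have h0 : d.lab.equiv ⟨0, by norm_num⟩ = 1 := d.lab.zero
  rw [h0, Subgroup.coe_one, one_smul]

/-- The permutation representation on the labels. -/
noncomputable def rho (d : Setting z P Q u h e) : G →* Equiv.Perm (Fin 28) :=
  (Equiv.ofBijective d.point d.point_bijective).symm.permCongrHom.toMonoidHom.comp
    (MulAction.toPermHom G (Sylow 3 G))

theorem point_rho (d : Setting z P Q u h e) (g : G) (i : Fin 28) : d.point (d.rho g i) = g • d.point i := by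
  show Equiv.ofBijective d.point d.point_bijective
    ((Equiv.ofBijective d.point d.point_bijective).symm (g • Equiv.ofBijective d.point d.point_bijective i)) = _
  rw [Equiv.apply_symm_apply]
  rfl

theorem rho_eq (d : Setting z P Q u h e) {g : G} {i j : Fin 28} (he' : g • d.point i = d.point j) : d.rho g i = j :=
  d.point_bijective.1 ((d.point_rho g i).trans he')

theorem rho_injective (d : Setting z P Q u h e) : Function.Injective d.rho :=
  (injective_iff_map_eq_one _).2 fun g hg => d.faith g fun X => by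
    obtain ⟨i, rfl⟩ := d.point_bijective.2 X
    rw [← d.point_rho, hg]
    rfl

theorem rho_trans (d : Setting z P Q u h e) (k : Fin 27) :
    encP (d.rho ((d.lab.equiv k : ↥(P : Subgroup G)) : G)) = trp e k.1 := by
  rw [encP, trp]
  congr 1
  refine List.map_congr_left fun i hi => ?_
  rw [List.mem_range] at hi
  rw [dif_pos hi]
  by_cases h27 : i < 27
  · have he' : d.rho ((d.lab.equiv k : ↥(P : Subgroup G)) : G) ⟨i, hi⟩ =
        ⟨mulN e k.1 i, by have := mulN_lt e k.1 i; omega⟩ := by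
      refine d.rho_eq ?_
      rw [d.point_lt (i := ⟨i, hi⟩) h27, d.point_lt (i := ⟨mulN e k.1 i, _⟩) (mulN_lt e k.1 i), ← mul_smul]
      congr 1
      exact (congrArg Subtype.val (d.lab.mul k ⟨i, h27⟩)).symm
    rw [he']
    simp [show i ≠ 27 by omega]
  · have he' : d.rho ((d.lab.equiv k : ↥(P : Subgroup G)) : G) ⟨i, hi⟩ = ⟨i, hi⟩ := by
      refine d.rho_eq ?_
      rw [d.point_last (i := ⟨i, hi⟩) h27, d.lab_fix]
    rw [he']
    simp [show i = 27 by omega]

theorem rho_u (d : Setting z P Q u h e) : encP (d.rho u) = sigP e := by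
  rw [encP, sigP]
  congr 1
  refine List.map_congr_left fun i hi => ?_
  rw [List.mem_range] at hi
  rw [dif_pos hi]
  by_cases h27 : i < 27
  · have he' : d.rho u ⟨i, hi⟩ = ⟨sig e i, lt_trans (mulN_lt _ _ _) (by norm_num)⟩ := by
      refine d.rho_eq ?_
      rw [d.point_lt (i := ⟨i, hi⟩) h27, d.point_lt (i := ⟨sig e i, _⟩) (mulN_lt _ _ _)]
      conv_rhs => rw [← d.conj ⟨i, h27⟩, mul_smul, inv_smul_eq_iff.2 d.base.fixQ.symm, mul_smul]
    rw [he']
    simp [show i ≠ 27 by omega]
  · have he' : d.rho u ⟨i, hi⟩ = ⟨i, hi⟩ := by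
      refine d.rho_eq ?_
      rw [d.point_last (i := ⟨i, hi⟩) h27, d.base.fixP]
    rw [he']
    simp [show i = 27 by omega]

theorem pow_fixP (d : Setting z P Q u h e) (j : ℕ) : u ^ j • P = P :=
  Sylow.smul_eq_iff_mem_normalizer.2 (pow_mem (Sylow.smul_eq_iff_mem_normalizer.1 d.base.fixP) j)

theorem pow_fixQ (d : Setting z P Q u h e) (j : ℕ) : u ^ j • Q = Q :=
  Sylow.smul_eq_iff_mem_normalizer.2 (pow_mem (Sylow.smul_eq_iff_mem_normalizer.1 d.base.fixQ) j)

/-- The stabiliser of the last point. -/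
theorem exists_dec (d : Setting z P Q u h e) {g : G} (hg : g • P = P) :
    ∃ c : Fin 27, ∃ j < 8, g = ((d.lab.equiv c : ↥(P : Subgroup G)) : G) * u ^ j := by
  let f : Fin 27 × Fin 8 → ↥(normalizer ((P : Subgroup G) : Set G)) := fun p =>
    ⟨((d.lab.equiv p.1 : ↥(P : Subgroup G)) : G) * u ^ p.2.1,
      mul_mem (le_normalizer (d.lab.equiv p.1).2) (Sylow.smul_eq_iff_mem_normalizer.1 (d.pow_fixP p.2.1))⟩
  have hinj : Function.Injective f := by
    rintro ⟨c, j⟩ ⟨c', j'⟩ e'
    have e2 : ((d.lab.equiv c : ↥(P : Subgroup G)) : G) * u ^ j.1 =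
        ((d.lab.equiv c' : ↥(P : Subgroup G)) : G) * u ^ j'.1 := congrArg Subtype.val e'
    have hfix := congrArg (fun g : G => g • Q) e2
    simp only [mul_smul, d.pow_fixQ] at hfix
    have hc : d.point ⟨c.1, by omega⟩ = d.point ⟨c'.1, by omega⟩ := by
      rw [d.point_lt (i := ⟨c.1, _⟩) c.2, d.point_lt (i := ⟨c'.1, _⟩) c'.2]
      exact hfix
    have hcc : c = c' := Fin.ext (congrArg Fin.val (d.point_bijective.1 hc) :)
    subst hcc
    have hj := mul_left_cancel e2
    refine Prod.ext rfl (Fin.ext ?_)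
    exact pow_injOn_Iio_orderOf (show j.1 < orderOf u by rw [d.base.order]; exact j.2)
      (show j'.1 < orderOf u by rw [d.base.order]; exact j'.2) hj
  have hbij : Function.Bijective f := (Nat.bijective_iff_injective_and_card f).2 ⟨hinj, by
    rw [d.base.cardN, Nat.card_prod, Nat.card_fin, Nat.card_fin]⟩
  obtain ⟨⟨c, j⟩, hcj⟩ := hbij.2 ⟨g, Sylow.smul_eq_iff_mem_normalizer.1 hg⟩
  exact ⟨c, j.1, j.2, (congrArg Subtype.val hcj).symm⟩

/-- The stabiliser of the two base points. -/
theorem mem_torus (d : Setting z P Q u h e) {g : G} (hg : g • P = P) (hg0 : g • Q = Q) : ∃ j < 8, g = u ^ j := by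
  obtain ⟨c, j, hj, rfl⟩ := d.exists_dec hg
  rw [mul_smul, d.pow_fixQ] at hg0
  exact ⟨j, hj, by rw [d.base.free _ (d.lab.equiv c).2 hg0, one_mul]⟩

/-- An element interchanging the base points. -/
theorem exists_swap (d : Setting z P Q u h e) : ∃ g : G, g • P = Q ∧ g • Q = P := by
  obtain ⟨g, hg⟩ := MulAction.exists_smul_eq G P Q
  obtain ⟨i, hi⟩ := d.point_bijective.2 (g⁻¹ • P)
  have hi27 : i.1 < 27 := by
    by_contra hn
    rw [d.point_last hn] at hi
    have e' : g • P = P := by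
      have := congrArg (fun R : Sylow 3 G => g • R) hi
      simpa using this
    exact d.base.ne (hg ▸ e')
  refine ⟨g * ((d.lab.equiv ⟨i.1, hi27⟩ : ↥(P : Subgroup G)) : G), by rw [mul_smul, d.lab_fix, hg], ?_⟩
  rw [mul_smul, ← d.point_lt hi27, hi, smul_inv_smul]

/-- Every element is a product of stabiliser elements and one swap. -/
theorem mem_of_gens (d : Setting z P Q u h e) {τ : G} (hτ : τ • P = Q) (U : Subgroup (Equiv.Perm (Fin 28)))
    (htr : ∀ c : Fin 27, d.rho ((d.lab.equiv c : ↥(P : Subgroup G)) : G) ∈ U) (hu : d.rho u ∈ U)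
    (hτU : d.rho τ ∈ U) (g : G) : d.rho g ∈ U := by
  have hN : ∀ k : G, k • P = P → d.rho k ∈ U := fun k hk => by
    obtain ⟨c, j, -, rfl⟩ := d.exists_dec hk
    rw [map_mul, map_pow]
    exact mul_mem (htr c) (pow_mem hu j)
  by_cases hg : g • P = P
  · exact hN g hg
  obtain ⟨i, hi⟩ := d.point_bijective.2 (g • P)
  have hi27 : i.1 < 27 := by
    by_contra hn
    rw [d.point_last hn] at hi
    exact hg hi.symm
  set x := ((d.lab.equiv ⟨i.1, hi27⟩ : ↥(P : Subgroup G)) : G)
  have hfix : ((x * τ)⁻¹ * g) • P = P := by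
    rw [mul_smul, inv_smul_eq_iff, mul_smul, hτ, ← hi, d.point_lt hi27]
  have := mul_mem (mul_mem (htr ⟨i.1, hi27⟩) hτU) (hN _ hfix)
  rwa [← map_mul, ← map_mul, mul_inv_cancel_left] at this

end Setting

/-- A simple group of order `6048` with the local structure carries a setting on twenty-eight points. -/
theorem Hyp.exists_setting (H : Hyp G z) : ∃ (P Q : Sylow 3 G) (u h : G) (e : ℕ), Nonempty (Setting z P Q u h e) := by
  obtain ⟨P, Q, u₀, h, B₀⟩ := H.exists_base
  obtain ⟨u, e, L, B, hc⟩ := B₀.exists_frame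
  exact ⟨P, Q, u, h, e.1, ⟨⟨B, L, e.2, hc, fun g hg => H.fix_all hg⟩⟩⟩

end Cfsg.Lib.LenSeven.UThree
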