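import Cfsg.Agent.Lib.LenSeven.UThree.Local
import Mathlib.GroupTheory.Coset.Card
import Mathlib.GroupTheory.Perm.Cycle.Type
import Cfsg.Agent.Lib.Small.SimpleOrder

/-!
# The Sylow `3`-subgroup through an element of order three of the centralizer
-/

set_option autoImplicit false
set_option linter.style.haveILetI false
set_option linter.unusedSectionVars false

namespace Cfsg.Lib.LenSeven.UThree

open Subgroup LenEight

variable {G : Type*} [Group G] [Finite G] {z : G}

namespace Hyp

variable (H : Hyp G z)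

set_option quotPrecheck false in
local notation "C" => centralizer ({z} : Set G)

include H

theorem fix_all {g : G} (hg : ∀ Q : Sylow 3 G, g • Q = Q) : g = 1 := by
  haveI := H.simple
  haveI : Fact (Nat.Prime 3) := ⟨Nat.prime_three⟩
  have hm : g ∈ (MulAction.toPermHom G (Sylow 3 G)).ker := MonoidHom.mem_ker.2 (Equiv.ext hg)
  rcases IsSimpleGroup.eq_bot_or_eq_top_of_normal (MulAction.toPermHom G (Sylow 3 G)).ker inferInstance with e | e
  · rw [e] at hm
    exact mem_bot.1 hm
  exfalso
  obtain ⟨P⟩ : Nonempty (Sylow 3 G) := inferInstance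
  have hfix : ∀ (k : G) (Q : Sylow 3 G), k • Q = Q := fun k Q => by
    have hk : k ∈ (MulAction.toPermHom G (Sylow 3 G)).ker := e ▸ mem_top k
    exact Equiv.congr_fun (MonoidHom.mem_ker.1 hk) Q
  have hnormal : (P : Subgroup G).Normal := ⟨fun x hx k => by
    have hn := Sylow.smul_eq_iff_mem_normalizer.1 (hfix k P)
    exact (mem_normalizer_iff.1 hn x).1 hx⟩
  have hc : Nat.card (P : Subgroup G) = 27 := by
    simpa using Cfsg.Lib.Small.card_sylow 3 224 (H.card.trans (by norm_num)) (by norm_num) P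
  rcases IsSimpleGroup.eq_bot_or_eq_top_of_normal _ hnormal with h | h
  · rw [h, card_bot] at hc; omega
  · rw [h, card_top, H.card] at hc; omega

/-- The structure of the centralizer of an element of order three of the centralizer of `z`. -/
theorem exists_sylow {h : G} (hh : h ∈ C) (h3 : orderOf h = 3) :
    ∃ P : Sylow 3 G, Nat.card (P : Subgroup G) = 27 ∧ h ∈ (P : Subgroup G) ∧
      (∀ x ∈ (P : Subgroup G), Commute x h) ∧
      (∀ x ∈ (P : Subgroup G), x ∈ C → x ∈ zpowers h) ∧
      (∀ g ∈ normalizer ((zpowers h : Subgroup G) : Set G), g • P = P) := by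
  classical
  haveI : Fact (Nat.Prime 2) := ⟨Nat.prime_two⟩
  haveI : Fact (Nat.Prime 3) := ⟨Nat.prime_three⟩
  haveI : Fact (Nat.Prime 7) := ⟨by norm_num⟩
  obtain ⟨w, hw, hww, hwc⟩ := H.four
  obtain ⟨h12, -⟩ := H.cent_three hh h3
  set D := centralizer ({h} : Set G) with hD
  have hwC : w ∈ C := mem_centralizer_singleton_iff.2 (by rw [← hww, mul_assoc])
  have hwD : w ∈ D := mem_centralizer_singleton_iff.2 (hwc h hh).symm
  have hhD : h ∈ D := mem_centralizer_singleton_iff.2 rfl
  have hzD : z ∈ D := hww ▸ mul_mem hwD hwD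
  -- a two-element of `C ⊓ D` is a power of `w`
  have htwo : ∀ g ∈ C ⊓ D, ∀ n : ℕ, orderOf g = 2 ^ n → g ∈ zpowers w := by
    intro g hg n hn
    set W := (zpowers w).subgroupOf (C ⊓ D) with hW
    haveI : W.Normal := ⟨fun x hx k => by
      rw [hW, mem_subgroupOf] at hx ⊢
      obtain ⟨i, hi⟩ := hx
      refine ⟨i, ?_⟩
      have hc : Commute (k : G) w := hwc k k.2.1
      show w ^ i = ((k * x * k⁻¹ : ↥(C ⊓ D)) : G)
      rw [Subgroup.coe_mul, Subgroup.coe_mul, Subgroup.coe_inv, ← hi]
      exact eq_mul_inv_of_mul_eq (hc.zpow_right i).eq.symm⟩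
    have hidx : W.index = 3 := by
      have h1 := card_mul_index W
      rw [Nat.card_congr (subgroupOfEquivOfLe (zpowers_le.2 ⟨hwC, hwD⟩ : zpowers w ≤ C ⊓ D)).toEquiv,
        Nat.card_zpowers, hw, h12] at h1
      omega
    have h3' := pow_index_mem W (⟨g, hg⟩ : ↥(C ⊓ D))
    rw [hidx, hW, mem_subgroupOf, Subgroup.coe_pow] at h3'
    obtain ⟨i, hi⟩ := exists_pow_eq_self_of_coprime (x := g) (n := 3) (by
      rw [hn]; exact Nat.Coprime.pow_right n (by norm_num))
    change (g ^ 3) ^ i = g at hi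
    rw [← hi]
    exact pow_mem h3' i
  -- the Sylow two-subgroup of `D` is cyclic
  have hcyc : ∃ S : Sylow 2 D, (S : Subgroup D) = zpowers (⟨w, hwD⟩ : D) := by
    have hp : IsPGroup 2 (zpowers (⟨w, hwD⟩ : D)) := IsPGroup.of_card (n := 2) (by
      rw [Nat.card_zpowers, Subgroup.orderOf_mk, hw]; norm_num)
    obtain ⟨S, hS⟩ := hp.exists_le_sylow
    refine ⟨S, le_antisymm ?_ hS⟩
    by_contra hle
    haveI : Group.IsNilpotent (S : Subgroup D) := S.2.isNilpotent
    set A := (zpowers (⟨w, hwD⟩ : D)).subgroupOf (S : Subgroup D) with hA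
    have hAt : A < ⊤ := lt_top_iff_ne_top.2 fun e => hle (subgroupOf_eq_top.1 e)
    obtain ⟨v, hvN, hvA⟩ := SetLike.exists_of_lt (Group.normalizerCondition_of_isNilpotent A hAt)
    set u : G := ((v : D) : G) with hu
    have hwA : (⟨⟨w, hwD⟩, hS (mem_zpowers _)⟩ : (S : Subgroup D)) ∈ A := mem_zpowers _
    obtain ⟨i, hi⟩ := (mem_normalizer_iff.1 hvN _).1 hwA
    have hi' : w ^ i = u * w * u⁻¹ := by
      have e := congrArg (Subtype.val : D → G) hi
      simpa [u] using e
    have hodd : Odd i := by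
      rcases Int.even_or_odd i with ⟨r, hr⟩ | ho
      · exfalso
        have h4 : orderOf (u * w * u⁻¹) = 4 := by rw [← MulAut.conj_apply, MulEquiv.orderOf_eq, hw]
        rw [← hi', hr, ← two_mul, zpow_mul, zpow_two, hww] at h4
        have h2 : (z ^ r) ^ 2 = 1 := by
          rw [← zpow_natCast, ← zpow_mul, mul_comm, zpow_mul, zpow_natCast, pow_two, H.zz, one_zpow]
        have := orderOf_dvd_of_pow_eq_one h2
        rw [h4] at this
        norm_num at this
      · exact ho
    obtain ⟨r, hr⟩ := hodd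
    have huz : u * z * u⁻¹ = z := by
      have e : u * z * u⁻¹ = (u * w * u⁻¹) * (u * w * u⁻¹) := by rw [← hww]; group
      rw [e, ← hi', ← zpow_add, hr, show (2 * r + 1) + (2 * r + 1) = 2 * (2 * r + 1) by ring, zpow_mul,
        zpow_two, hww, zpow_add, zpow_mul, zpow_two, H.zz, one_zpow, one_mul, zpow_one]
    have huC : u ∈ C := mem_centralizer_singleton_iff.2 (mul_inv_eq_iff_eq_mul.1 huz)
    obtain ⟨n, hn⟩ := IsPGroup.iff_orderOf.1 S.2 v
    obtain ⟨j, hj⟩ := htwo u ⟨huC, (v : D).2⟩ n (by rw [hu, Subgroup.orderOf_coe, Subgroup.orderOf_coe, hn])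
    exact hvA ⟨j, Subtype.ext (by simpa [u] using hj)⟩
  obtain ⟨S, hS⟩ := hcyc
  have hmin : ∀ q : ℕ, q.Prime → q ∣ Nat.card D → 2 ≤ q := fun q hq _ => hq.two_le
  obtain ⟨S', K, hKn, hKc⟩ := Cfsg.Lib.Local.FixedOrder.hasNormalPComplement_of_cyclic hmin S (by
    rw [hS]; infer_instance)
  have hS'4 : Nat.card (S' : Subgroup D) = 4 := by
    rw [Nat.card_congr (Sylow.equiv S' S).toEquiv, hS, Nat.card_zpowers, Subgroup.orderOf_mk, hw]
  have hcardD : Nat.card K * 4 = Nat.card D := hS'4 ▸ hKc.card_mul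
  have hKidx : K.index = 4 := by
    have h1 := card_mul_index K
    rw [← hcardD] at h1
    exact Nat.eq_of_mul_eq_mul_left Nat.card_pos h1
  have hodd : ¬ 2 ∣ Nat.card K := fun h2 => by
    have h8 : 2 ^ 3 ∣ Nat.card D := by
      obtain ⟨c, hc⟩ := h2
      rw [← hcardD, hc]
      exact ⟨c, by ring⟩
    obtain ⟨R, hR⟩ := Sylow.exists_subgroup_card_pow_prime 2 h8
    obtain ⟨R', hRR'⟩ := (IsPGroup.of_card hR).exists_le_sylow
    have hle := card_le_of_le hRR'
    rw [hR, Nat.card_congr (Sylow.equiv R' S).toEquiv, hS, Nat.card_zpowers, Subgroup.orderOf_mk, hw] at hle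
    norm_num at hle
  have hKd : Nat.card K ∣ 189 := by
    have h1 : Nat.card K ∣ 6048 := H.card ▸ (card_subgroup_dvd_card K).trans (card_subgroup_dvd_card D)
    exact (Nat.Coprime.pow_right 5 ((Nat.coprime_comm).1 (Nat.prime_two.coprime_iff_not_dvd.2 hodd))).dvd_of_dvd_mul_left
      (show Nat.card K ∣ 2 ^ 5 * 189 by simpa using h1)
  let wD : D := ⟨w, hwD⟩
  let hD' : D := ⟨h, hhD⟩
  have hhK : hD' ∈ K := by
    have hp := pow_index_mem K hD'
    rw [hKidx] at hp
    have e : hD' ^ 4 = hD' := Subtype.ext (by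
      rw [Subgroup.coe_pow, show (4 : ℕ) = 3 + 1 from rfl, pow_succ, ← h3, pow_orderOf_eq_one, one_mul])
    rwa [e] at hp
  -- the elements of `K` centralizing `z`
  have hKC : ∀ k ∈ K, ((k : D) : G) ∈ C → (k : G) ∈ zpowers h := by
    intro k hk hkC
    set W := (zpowers h).subgroupOf (C ⊓ D) with hW
    haveI : W.Normal := ⟨fun x hx g => by
      rw [hW, mem_subgroupOf] at hx ⊢
      obtain ⟨i, hi⟩ := hx
      refine ⟨i, ?_⟩
      have hc : Commute (g : G) h := mem_centralizer_singleton_iff.1 g.2.2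
      show h ^ i = ((g * x * g⁻¹ : ↥(C ⊓ D)) : G)
      rw [Subgroup.coe_mul, Subgroup.coe_mul, Subgroup.coe_inv, ← hi]
      exact eq_mul_inv_of_mul_eq (hc.zpow_right i).eq.symm⟩
    have hidx : W.index = 4 := by
      have h1 := card_mul_index W
      rw [Nat.card_congr (subgroupOfEquivOfLe (zpowers_le.2 ⟨hh, hhD⟩ : zpowers h ≤ C ⊓ D)).toEquiv,
        Nat.card_zpowers, h3, h12] at h1
      omega
    have h4 := pow_index_mem W (⟨k, hkC, k.2⟩ : ↥(C ⊓ D))
    rw [hidx, hW, mem_subgroupOf, Subgroup.coe_pow] at h4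
    obtain ⟨i, hi⟩ := exists_pow_eq_self_of_coprime (x := (k : G)) (n := 4) (by
      have hko : orderOf (k : G) ∣ Nat.card K := by
        rw [Subgroup.orderOf_coe, ← Subgroup.orderOf_mk k hk]
        exact orderOf_dvd_natCard _
      exact (Nat.Coprime.coprime_dvd_right (hko.trans hKd) (by norm_num : Nat.Coprime 4 189)))
    change ((k : G) ^ 4) ^ i = k at hi
    rw [← hi]
    exact pow_mem h4 i
  -- no element of order seven
  have h7 : ¬ 7 ∣ Nat.card K := fun h7 => by
    obtain ⟨A⟩ : Nonempty (Sylow 7 K) := inferInstance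
    have hA : Nat.card (A : Subgroup K) = 7 := by
      obtain ⟨j, hj⟩ := A.2.exists_card_eq
      have h1 : 7 ^ j ∣ 189 := hj ▸ (card_subgroup_dvd_card _).trans hKd
      have h2 : 7 ∣ 7 ^ j := hj ▸ A.dvd_card_of_dvd_card h7
      rcases j with _ | _ | j
      · norm_num at h2
      · rw [hj]; norm_num
      · exfalso
        have : 7 ^ 2 ∣ 189 := (pow_dvd_pow 7 (by omega)).trans h1
        norm_num at this
    have hn1 : Nat.card (Sylow 7 K) = 1 := by
      have hd : Nat.card (Sylow 7 K) ∣ 27 := by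
        refine A.card_dvd_index.trans ?_
        have h1 := card_mul_index (A : Subgroup K)
        rw [hA] at h1
        exact (Nat.mul_dvd_mul_iff_left (by norm_num : 0 < 7)).1 (h1 ▸ (by simpa using hKd) : 7 * _ ∣ 7 * 27)
      have hm := card_sylow_modEq_one 7 K
      have := Nat.le_of_dvd (by norm_num) hd
      unfold Nat.ModEq at hm
      obtain ⟨i, hi, hi'⟩ := (Nat.dvd_prime_pow Nat.prime_three).1 (show Nat.card (Sylow 7 K) ∣ 3 ^ 3 by simpa using hd)
      interval_cases i <;> omega
    haveI : Subsingleton (Sylow 7 K) := (Nat.card_eq_one_iff_unique.1 hn1).1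
    haveI := hKn
    haveI : (A : Subgroup K).Characteristic := A.characteristic_of_subsingleton
    haveI hAn : ((A : Subgroup K).map K.subtype).Normal := inferInstance
    obtain ⟨a, ha⟩ := exists_prime_orderOf_dvd_card' 7 (show 7 ∣ Nat.card ((A : Subgroup K).map K.subtype) by
      rw [card_map_of_injective (Subgroup.subtype_injective _), hA])
    have hzp : zpowers (a : D) = (A : Subgroup K).map K.subtype := eq_of_le_of_card_ge (zpowers_le.2 a.2) (by
      rw [card_map_of_injective (Subgroup.subtype_injective _), hA, Nat.card_zpowers, Subgroup.orderOf_coe, ha])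
    have hmem : wD * (a : D) * wD⁻¹ ∈ zpowers (a : D) := by
      rw [hzp]
      exact hAn.conj_mem _ a.2 wD
    rw [← mem_powers_iff_mem_zpowers] at hmem
    obtain ⟨i, hi⟩ := hmem
    have hi' : w * ((a : D) : G) * w⁻¹ = ((a : D) : G) ^ i := (congrArg (Subtype.val : D → G) hi).symm
    have hpow : ∀ n : ℕ, w ^ n * ((a : D) : G) * (w ^ n)⁻¹ = ((a : D) : G) ^ i ^ n := by
      intro n
      induction n with
      | zero => simp
      | succ n ih =>
        rw [pow_succ', show w * w ^ n * ((a : D) : G) * (w * w ^ n)⁻¹ = w * (w ^ n * ((a : D) : G) * (w ^ n)⁻¹) * w⁻¹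
          by group, ih, ← MulAut.conj_apply, map_pow, MulAut.conj_apply, hi', ← pow_mul, ← pow_succ']
    have h4 := hpow 4
    rw [show w ^ 4 = 1 by rw [← hw, pow_orderOf_eq_one], one_mul, inv_one, mul_one] at h4
    have hao : orderOf ((a : D) : G) = 7 := by rw [Subgroup.orderOf_coe, Subgroup.orderOf_coe, ha]
    have hmod : i ^ 4 ≡ 1 [MOD 7] := by
      rw [← hao]
      exact pow_eq_pow_iff_modEq.1 (by rw [pow_one]; exact h4.symm)
    have hi2 : i ^ 2 % 7 = 1 := by
      rw [Nat.ModEq, Nat.pow_mod] at hmod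
      rw [Nat.pow_mod]
      have key : ∀ r < 7, r ^ 4 % 7 = 1 % 7 → r ^ 2 % 7 = 1 := by decide
      exact key _ (Nat.mod_lt i (by norm_num)) hmod
    have hza : z * ((a : D) : G) * z⁻¹ = ((a : D) : G) := by
      rw [← hww, ← pow_two, hpow 2]
      conv_rhs => rw [← pow_one ((a : D) : G)]
      exact pow_eq_pow_iff_modEq.2 (by rw [hao, Nat.ModEq, hi2])
    have haC : ((a : D) : G) ∈ C := mem_centralizer_singleton_iff.2 (mul_inv_eq_iff_eq_mul.1 hza).symm
    have := orderOf_dvd_natCard (⟨((a : D) : G), haC⟩ : C)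
    rw [Subgroup.orderOf_mk, hao, H.cardC] at this
    norm_num at this
  -- `⟨w⟩` acts freely outside `⟨h⟩`
  have h27 : Nat.card K = 27 := by
    have hd27 : Nat.card K ∣ 3 ^ 3 :=
      (Nat.coprime_comm.1 ((Nat.Prime.coprime_iff_not_dvd (by norm_num)).2 h7)).dvd_of_dvd_mul_right
        (show Nat.card K ∣ 3 ^ 3 * 7 by simpa using hKd)
    obtain ⟨j, hj, hj'⟩ := (Nat.dvd_prime_pow Nat.prime_three).1 hd27
    have h3K : 3 ∣ Nat.card K := by
      have e : orderOf (⟨hD', hhK⟩ : K) = 3 := by rw [Subgroup.orderOf_mk, Subgroup.orderOf_mk, h3]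
      exact e ▸ orderOf_dvd_natCard _
    interval_cases j
    · rw [hj'] at h3K; norm_num at h3K
    · -- `D` of order twelve
      exfalso
      obtain ⟨P, hP⟩ := (IsPGroup.of_card (p := 3) (n := 1) (by rw [Nat.card_zpowers, h3, pow_one]) :
        IsPGroup 3 (zpowers h)).exists_le_sylow
      have hP27 : Nat.card (P : Subgroup G) = 27 := by
        simpa using Cfsg.Lib.Small.card_sylow 3 224 (H.card.trans (by norm_num)) (by norm_num) P
      haveI : Nontrivial (P : Subgroup G) := Finite.one_lt_card_iff_nontrivial.1 (by rw [hP27]; norm_num)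
      have hcn : center (P : Subgroup G) ≠ ⊥ := fun e => by
        haveI := IsPGroup.center_nontrivial (G := (P : Subgroup G)) P.2
        exact not_nontrivial _ (e ▸ (inferInstance : Nontrivial (center (P : Subgroup G))))
      obtain ⟨c, hc⟩ := exists_prime_orderOf_dvd_card' 3 (show 3 ∣ Nat.card (center (P : Subgroup G)) by
        obtain ⟨i, hi⟩ := (P.2.to_subgroup (center (P : Subgroup G))).exists_card_eq
        rw [hi]
        exact dvd_pow_self 3 fun e0 => hcn (eq_bot_of_card_eq _ (by rw [hi, e0, pow_zero])))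
      have hcD : ((c : (P : Subgroup G)) : G) ∈ D := mem_centralizer_singleton_iff.2 (by
        have e := congrArg (fun x : (P : Subgroup G) => (x : G)) (mem_center_iff.1 c.2 ⟨h, hP (mem_zpowers h)⟩)
        simpa using e.symm)
      have hck : (⟨_, hcD⟩ : D) ∈ K := by
        have hp := pow_index_mem K (⟨_, hcD⟩ : D)
        rw [hKidx] at hp
        have e : (⟨((c : (P : Subgroup G)) : G), hcD⟩ : D) ^ 4 = ⟨_, hcD⟩ := Subtype.ext (by
          rw [Subgroup.coe_pow, show (4 : ℕ) = 3 + 1 from rfl, pow_succ,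
            orderOf_dvd_iff_pow_eq_one.1 (show orderOf ((c : (P : Subgroup G)) : G) ∣ 3 by
              rw [Subgroup.orderOf_coe, Subgroup.orderOf_coe, hc]), one_mul])
        rwa [e] at hp
      have hKh : K = zpowers hD' := (eq_of_le_of_card_ge (zpowers_le.2 hhK) (by
        rw [hj', Nat.card_zpowers, Subgroup.orderOf_mk, h3]; norm_num)).symm
      rw [hKh] at hck
      have hch : ((c : (P : Subgroup G)) : G) ∈ zpowers h := by
        obtain ⟨i, hi⟩ := hck
        exact ⟨i, by simpa [hD'] using congrArg (Subtype.val : D → G) hi⟩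
      have hzc : zpowers h ≤ zpowers ((c : (P : Subgroup G)) : G) :=
        (eq_of_le_of_card_ge (zpowers_le.2 hch) (by
          rw [Nat.card_zpowers, Nat.card_zpowers, h3, Subgroup.orderOf_coe, Subgroup.orderOf_coe, hc])).ge
      obtain ⟨i, hi⟩ := hzc (mem_zpowers h)
      have hPD : (P : Subgroup G) ≤ D := fun x hx => mem_centralizer_singleton_iff.2 (by
        have hxc : Commute x ((c : (P : Subgroup G)) : G) := by
          have e := congrArg (fun y : (P : Subgroup G) => (y : G)) (mem_center_iff.1 c.2 ⟨x, hx⟩)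
          exact e
        rw [← hi]
        exact (hxc.zpow_right i).eq)
      have := card_dvd_of_le hPD
      rw [hP27, ← hcardD, hj'] at this
      norm_num at this
    · -- nine is impossible
      exfalso
      haveI := hKn
      let σ : Equiv.Perm K :=
        { toFun := fun k => ⟨wD * k * wD⁻¹, hKn.conj_mem _ k.2 wD⟩
          invFun := fun k => ⟨wD⁻¹ * k * wD, hKn.conj_mem' _ k.2 wD⟩
          left_inv := fun k => Subtype.ext (by simp [mul_assoc])
          right_inv := fun k => Subtype.ext (by simp [mul_assoc]) }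
      have hσ : ∀ (n : ℕ) (k : K), (((σ ^ n) k : K) : D) = wD ^ n * k * (wD ^ n)⁻¹ := by
        intro n
        induction n with
        | zero => intro k; simp
        | succ n ih =>
          intro k
          rw [pow_succ' σ, Equiv.Perm.mul_apply]
          show wD * ((σ ^ n) k : K) * wD⁻¹ = _
          rw [ih, pow_succ' wD]
          group
      have hσ4 : σ ^ 4 = 1 := Equiv.ext fun k => Subtype.ext (by
        rw [hσ, show wD ^ 4 = 1 from Subtype.ext (by
          rw [Subgroup.coe_pow, show ((wD : D) : G) = w from rfl, ← hw, pow_orderOf_eq_one]; rfl)]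
        simp)
      have hfix : ∀ k : K, ((k : D) : G) ∈ zpowers h → σ k = k := fun k hk => Subtype.ext (Subtype.ext (by
        obtain ⟨i, hi⟩ := hk
        show w * ((k : D) : G) * w⁻¹ = _
        rw [← hi, mul_inv_eq_iff_eq_mul]
        have hc : Commute w h := (hwc h hh).symm
        exact (hc.zpow_right i).eq))
      have hfree : ∀ k : K, (σ ^ 2) k = k → ((k : D) : G) ∈ zpowers h := fun k hk => by
        refine hKC _ k.2 (mem_centralizer_singleton_iff.2 ?_)
        have e := congrArg (fun y : K => ((y : D) : G)) hk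
        simp only [hσ, Subgroup.coe_mul, Subgroup.coe_inv, Subgroup.coe_pow] at e
        rw [show ((wD : D) : G) ^ 2 = z by rw [pow_two]; exact hww] at e
        exact (mul_inv_eq_iff_eq_mul.1 e).symm
      -- the square is an involution with exactly the elements of `⟨h⟩` as fixed points
      letI := Fintype.ofFinite K
      have hsupp : ∀ k : K, σ k = k ↔ (σ ^ 2) k = k := fun k =>
        ⟨fun e => by rw [pow_two, Equiv.Perm.mul_apply, e, e], fun e => hfix k (hfree k e)⟩
      have hcyc4 : ∀ l ∈ σ.cycleType, l = 4 := by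
        intro l hl
        obtain ⟨τ, hτ1, hτ2⟩ : ∃ τ, τ ∈ σ.cycleFactorsFinset ∧ τ.support.card = l := by
          rw [Equiv.Perm.cycleType_def, Multiset.mem_map] at hl
          obtain ⟨τ, hτ, rfl⟩ := hl
          exact ⟨τ, hτ, rfl⟩
        obtain ⟨k, hk⟩ : τ.support.Nonempty := Finset.card_pos.1 (by
          rw [hτ2]
          have := Equiv.Perm.two_le_of_mem_cycleType hl
          omega)
        have hl4 : l ∣ 4 := (Equiv.Perm.dvd_of_mem_cycleType hl).trans (orderOf_dvd_of_pow_eq_one hσ4)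
        have h2l : 2 ≤ l := Equiv.Perm.two_le_of_mem_cycleType hl
        rcases (show l = 2 ∨ l = 4 by
          have := Nat.le_of_dvd (by norm_num) hl4
          interval_cases l <;> simp_all) with rfl | rfl
        swap
        · rfl
        exfalso
        have hne : σ k ≠ k := Equiv.Perm.mem_support.1
          ((Equiv.Perm.mem_cycleFactorsFinset_support_le hτ1) hk)
        refine hne ((hsupp k).2 ?_)
        have hτ := (Equiv.Perm.mem_cycleFactorsFinset_iff.1 hτ1)
        have ho : orderOf τ = 2 := by rw [hτ.1.orderOf, hτ2]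
        have e : τ ^ 2 = 1 := by rw [← ho, pow_orderOf_eq_one]
        have e1 : σ k = τ k := (hτ.2 k hk).symm
        have e2 : τ k ∈ τ.support := Equiv.Perm.apply_mem_support.2 hk
        rw [pow_two, Equiv.Perm.mul_apply, e1, ← hτ.2 _ e2, ← Equiv.Perm.mul_apply, ← pow_two, e,
          Equiv.Perm.one_apply]
      have hsum := Equiv.Perm.sum_cycleType σ
      have hdvd : 4 ∣ σ.support.card := hsum ▸ Multiset.dvd_sum fun l hl => by rw [hcyc4 l hl]
      have hfix3 : σ.supportᶜ.card = 3 := by
        let f : ↥(zpowers h) → {k : K // σ k = k} := fun x => ⟨⟨⟨x, by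
            obtain ⟨i, hi⟩ := x.2
            exact hi ▸ zpow_mem hhD i⟩, by
            obtain ⟨i, hi⟩ := x.2
            have e : (⟨(x : G), hi ▸ zpow_mem hhD i⟩ : D) = hD' ^ i := Subtype.ext (by
              rw [Subgroup.coe_zpow]; exact hi.symm)
            rw [e]
            exact zpow_mem hhK i⟩, hfix _ x.2⟩
        have hf : Function.Bijective f := ⟨fun x y e => Subtype.ext (congrArg (fun k : {k : K // σ k = k} => ((k.1 : D) : G)) e),
          fun k => ⟨⟨((k.1 : D) : G), hfree _ ((hsupp _).1 k.2)⟩, rfl⟩⟩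
        have := Nat.card_congr (Equiv.ofBijective f hf)
        rw [Nat.card_zpowers, h3] at this
        rw [this, Nat.card_eq_fintype_card, Fintype.card_subtype]
        congr 1
        ext k
        simp [Equiv.Perm.mem_support]
      have htot := σ.support.card_compl
      rw [hfix3, ← Nat.card_eq_fintype_card, hj'] at htot
      obtain ⟨c, hc⟩ := hdvd
      omega
    · simpa using hj'
  set P0 := K.map D.subtype with hP0
  have hP0c : Nat.card P0 = 27 := by rw [hP0, card_map_of_injective (Subgroup.subtype_injective _), h27]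
  obtain ⟨P, hP⟩ := (IsPGroup.of_card (p := 3) (n := 3) (by rw [hP0c]; norm_num) : IsPGroup 3 P0).exists_le_sylow
  have hP27 : Nat.card (P : Subgroup G) = 27 := by
    simpa using Cfsg.Lib.Small.card_sylow 3 224 (H.card.trans (by norm_num)) (by norm_num) P
  have hPeq : (P : Subgroup G) = P0 := (eq_of_le_of_card_ge hP (by rw [hP27, hP0c])).symm
  refine ⟨P, hP27, ?_, ?_, ?_, ?_⟩
  · rw [hPeq]; exact ⟨hD', hhK, rfl⟩
  · intro x hx
    rw [hPeq] at hx
    obtain ⟨k, -, rfl⟩ := hx
    exact mem_centralizer_singleton_iff.1 k.2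
  · intro x hx hxC
    rw [hPeq] at hx
    obtain ⟨k, hk, rfl⟩ := hx
    exact hKC k hk hxC
  · intro g hg
    refine Sylow.smul_eq_iff_mem_normalizer.2 ?_
    show g ∈ normalizer ((P : Subgroup G) : Set G)
    rw [hPeq]
    refine Cfsg.Lib.Local.FixedOrder.mem_normalizer_of_conj_le ?_
    rintro _ ⟨k, hk, rfl⟩
    have hkD : g * (k : G) * g⁻¹ ∈ D := mem_centralizer_singleton_iff.2 (by
      obtain ⟨i, hi⟩ := (mem_normalizer_iff''.1 hg h).1 (mem_zpowers h)
      have hc : Commute (k : G) h := mem_centralizer_singleton_iff.1 k.2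
      calc g * (k : G) * g⁻¹ * h = g * ((k : G) * (g⁻¹ * h * g)) * g⁻¹ := by group
        _ = g * ((g⁻¹ * h * g) * (k : G)) * g⁻¹ := by rw [← hi, (hc.zpow_right i).eq]
        _ = h * (g * (k : G) * g⁻¹) := by group)
    refine ⟨⟨_, hkD⟩, ?_, rfl⟩
    have hp := pow_index_mem K (⟨_, hkD⟩ : D)
    rw [hKidx] at hp
    obtain ⟨i, hi⟩ := exists_pow_eq_self_of_coprime (x := (⟨_, hkD⟩ : D)) (n := 4) (by
      have ho : orderOf (⟨_, hkD⟩ : D) = orderOf (⟨k, hk⟩ : K) := by
        rw [Subgroup.orderOf_mk, ← MulAut.conj_apply, MulEquiv.orderOf_eq]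
        exact (Subgroup.orderOf_coe k).trans (Subgroup.orderOf_mk k hk).symm
      rw [ho]
      exact Nat.Coprime.coprime_dvd_right (h27 ▸ orderOf_dvd_natCard _) (by norm_num : Nat.Coprime 4 27))
    change ((⟨_, hkD⟩ : D) ^ 4) ^ i = _ at hi
    rw [← hi]
    exact pow_mem hp i

end Hyp

end Cfsg.Lib.LenSeven.UThree
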