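import Cfsg.Agent.Lib.LenSeven.UThree.Sylow
import Mathlib.GroupTheory.Perm.Cycle.Type

/-!
# The cyclic group of order eight fixing two Sylow `3`-subgroups
-/

set_option autoImplicit false
set_option linter.style.haveILetI false
set_option linter.unusedSectionVars false

namespace Cfsg.Lib.LenSeven.UThree

open Subgroup LenEight MulAction

/-- Two Sylow `3`-subgroups and a generator of their common stabiliser. -/
structure Base {G : Type*} [Group G] (z : G) (P Q : Sylow 3 G) (u h : G) : Prop where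
  order : orderOf u = 8
  four : u ^ 4 = z
  hz : orderOf z = 2
  fixP : u • P = P
  fixQ : u • Q = Q
  ne : Q ≠ P
  card : Nat.card (P : Subgroup G) = 27
  n28 : Nat.card (Sylow 3 G) = 28
  cardN : Nat.card (normalizer ((P : Subgroup G) : Set G)) = 216
  free : ∀ x ∈ (P : Subgroup G), x • Q = Q → x = 1
  hP : h ∈ (P : Subgroup G)
  hC : h ∈ centralizer ({z} : Set G)
  three : orderOf h = 3
  central : ∀ x ∈ (P : Subgroup G), Commute x h
  fixed : ∀ x ∈ (P : Subgroup G), x ∈ centralizer ({z} : Set G) → x ∈ zpowers h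
  inv : u * h * u⁻¹ = h⁻¹

variable {G : Type*} [Group G] [Finite G] {z : G}

theorem mul_inv_mem_of_fix {P : Sylow 3 G} {g x : G} (hg : g • P = P) (hx : x ∈ (P : Subgroup G)) :
    g * x * g⁻¹ ∈ (P : Subgroup G) :=
  (mem_normalizer_iff.1 (Sylow.smul_eq_iff_mem_normalizer.1 hg) x).1 hx

theorem inv_of_zpowers_three {g h : G} (h3 : orderOf h = 3) (hg : g ∈ normalizer ((zpowers h : Subgroup G) : Set G))
    (hne : g * h ≠ h * g) : g * h * g⁻¹ = h⁻¹ := by
  have hm := (mem_normalizer_iff.1 hg h).1 (mem_zpowers h)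
  obtain ⟨j, hj⟩ := mem_powers_iff_mem_zpowers.2 hm
  obtain ⟨k, hk3, hk'⟩ : ∃ k < 3, h ^ k = g * h * g⁻¹ :=
    ⟨j % 3, Nat.mod_lt _ (by norm_num), by rw [← hj, ← h3, pow_mod_orderOf]⟩
  interval_cases k
  · exfalso
    rw [pow_zero] at hk'
    have : h = 1 := by
      have e := hk'.symm
      rwa [mul_inv_eq_one, mul_eq_left] at e
    rw [this, orderOf_one] at h3
    omega
  · exfalso
    rw [pow_one] at hk'
    exact hne (mul_inv_eq_iff_eq_mul.1 hk'.symm)
  · rw [← hk']
    exact eq_inv_of_mul_eq_one_left (by rw [← pow_succ, show 2 + 1 = orderOf h from h3.symm, pow_orderOf_eq_one])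

namespace Hyp

variable (H : Hyp G z)

set_option quotPrecheck false in
local notation "C" => centralizer ({z} : Set G)

include H

/-- A generator of a Sylow `2`-subgroup of the normalizer in the centralizer. -/
theorem exists_eight {h : G} (hh : h ∈ C) (h3 : orderOf h = 3) {P : Sylow 3 G}
    (hP : Nat.card (P : Subgroup G) = 27)
    (hfix : ∀ x ∈ (P : Subgroup G), x ∈ C → x ∈ zpowers h) (hhP : h ∈ (P : Subgroup G))
    (hN : ∀ g ∈ normalizer ((zpowers h : Subgroup G) : Set G), g • P = P) :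
    ∃ u ∈ C, orderOf u = 8 ∧ u ^ 4 = z ∧ (∀ c ∈ C, Commute (u ^ 2) c) ∧ u * h * u⁻¹ = h⁻¹ ∧
      u ∈ normalizer ((zpowers h : Subgroup G) : Set G) := by
  classical
  haveI : Fact (Nat.Prime 2) := ⟨Nat.prime_two⟩
  haveI : Fact (Nat.Prime 3) := ⟨Nat.prime_three⟩
  obtain ⟨w, hw, hww, hwc⟩ := H.four
  obtain ⟨h12, h24⟩ := H.cent_three hh h3
  set M := C ⊓ normalizer ((zpowers h : Subgroup G) : Set G) with hM
  have hwM : w ∈ M := ⟨mem_centralizer_singleton_iff.2 (by rw [← hww, mul_assoc]),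
    le_normalizer_zpowers (H := centralizer ({h} : Set G)) (fun v hv => mem_centralizer_singleton_iff.1 hv)
      (mem_centralizer_singleton_iff.2 (hwc h hh).symm)⟩
  obtain ⟨T, hT⟩ := (IsPGroup.of_card (p := 2) (n := 2) (by
    rw [Nat.card_zpowers, Subgroup.orderOf_mk, hw]; norm_num) : IsPGroup 2 (zpowers (⟨w, hwM⟩ : M))).exists_le_sylow
  have hT8 : Nat.card (T : Subgroup M) = 8 := by
    simpa using Cfsg.Lib.Small.card_sylow 3 3 (h24.trans (by norm_num)) (by norm_num) T
  obtain ⟨v, hvT, hvW⟩ : ∃ v ∈ (T : Subgroup M), v ∉ zpowers (⟨w, hwM⟩ : M) := by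
    by_contra hall
    push Not at hall
    have := card_le_of_le (fun x hx => hall x hx : (T : Subgroup M) ≤ zpowers (⟨w, hwM⟩ : M))
    rw [hT8, Nat.card_zpowers, Subgroup.orderOf_mk, hw] at this
    omega
  -- the square of `v` is a power of `w`
  set A := (zpowers (⟨w, hwM⟩ : M)).subgroupOf (T : Subgroup M) with hA
  haveI : A.Normal := ⟨fun x hx k => by
    rw [hA, mem_subgroupOf] at hx ⊢
    obtain ⟨i, hi⟩ := hx
    refine ⟨i, ?_⟩
    have hc : Commute ((k : M) : M) (⟨w, hwM⟩ : M) := Subtype.ext (hwc _ (k : M).2.1)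
    show (⟨w, hwM⟩ : M) ^ i = ((k * x * k⁻¹ : (T : Subgroup M)) : M)
    rw [Subgroup.coe_mul, Subgroup.coe_mul, Subgroup.coe_inv, ← hi]
    exact eq_mul_inv_of_mul_eq (hc.zpow_right i).eq.symm⟩
  have hidx : A.index = 2 := by
    have h1 := card_mul_index A
    rw [Nat.card_congr (subgroupOfEquivOfLe hT).toEquiv, Nat.card_zpowers, Subgroup.orderOf_mk, hw, hT8] at h1
    omega
  have hsq := pow_index_mem A ⟨v, hvT⟩
  rw [hidx, hA, mem_subgroupOf, Subgroup.coe_pow, ← mem_powers_iff_mem_zpowers] at hsq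
  obtain ⟨i, hi⟩ := hsq
  set g : G := (v : G) with hg
  have hgC : g ∈ C := v.2.1
  have hgw : ∀ k : ℕ, g ≠ w ^ k := fun k e => hvW (mem_zpowers_iff.2 ⟨k, Subtype.ext (by simpa [g] using e.symm)⟩)
  have hgg : g ^ 2 = w ^ (i % 4) := by
    rw [← hw, pow_mod_orderOf, hg, ← Subgroup.coe_pow]
    exact (congrArg (Subtype.val : M → G) hi).symm.trans (Subgroup.coe_pow _ _ _)
  have hgwc : Commute g w := hwc g hgC
  have hzc : z = w ^ 2 := by rw [pow_two, hww]
  have hw4 : w ^ 4 = 1 := by rw [← hw, pow_orderOf_eq_one]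
  have hz2 : (w ^ 2) ^ 2 = 1 := by rw [← pow_mul]; exact hw4
  -- involutions different from `z` invert the Sylow subgroup
  have hnone : ∀ b : G, b ∈ M → b ^ 2 = 1 → b ≠ 1 → b = z := by
    intro b hb hb2 hb1
    by_contra hbz
    have hbo : orderOf b = 2 := orderOf_eq_prime hb2 hb1
    have hbh : b * h * b⁻¹ = h⁻¹ := inv_of_zpowers_three h3 hb.2 (H.invThree b hb.1 hbo hbz h hh h3)
    have hinv : ∀ t : G, t ∈ M → orderOf t = 2 → t * h * t⁻¹ = h⁻¹ → ∀ x ∈ (P : Subgroup G), t * x * t⁻¹ = x⁻¹ := by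
      intro t ht hto hth
      have htP := hN t ht.2
      have hfree : ∀ x ∈ (P : Subgroup G), t * x = x * t → x = 1 := by
        intro x hx hxt
        by_contra hx1
        set X := (P : Subgroup G) ⊓ centralizer ({t} : Set G) with hX
        have hxX : x ∈ X := ⟨hx, mem_centralizer_singleton_iff.2 hxt.symm⟩
        have hXd : Nat.card X ∣ 3 ^ 3 := by
          have := card_dvd_of_le (inf_le_left : X ≤ (P : Subgroup G))
          rwa [hP, show (27 : ℕ) = 3 ^ 3 by norm_num] at this
        have hXC : Nat.card X ∣ 96 := by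
          obtain ⟨k, hk⟩ := isConj_iff.1 (H.hone t hto)
          have hm : X.map (MulAut.conj k⁻¹).toMonoidHom ≤ C := by
            rintro _ ⟨y, hy, rfl⟩
            have hyt : Commute y t := mem_centralizer_singleton_iff.1 hy.2
            refine mem_centralizer_singleton_iff.2 ?_
            show k⁻¹ * y * k⁻¹⁻¹ * z = z * (k⁻¹ * y * k⁻¹⁻¹)
            rw [inv_inv, show z = k⁻¹ * t * k by rw [← hk]; group]
            calc k⁻¹ * y * k * (k⁻¹ * t * k) = k⁻¹ * (y * t) * k := by group
              _ = k⁻¹ * (t * y) * k := by rw [hyt.eq]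
              _ = k⁻¹ * t * k * (k⁻¹ * y * k) := by group
          have := card_dvd_of_le hm
          rwa [card_map_of_injective (MulAut.conj k⁻¹).injective, H.cardC] at this
        have hX3 : Nat.card X = 3 := by
          obtain ⟨j, hj, hj'⟩ := (Nat.dvd_prime_pow Nat.prime_three).1 hXd
          interval_cases j
          · exfalso
            rw [pow_zero] at hj'
            exact hx1 (mem_bot.1 ((eq_bot_of_card_eq X hj') ▸ hxX))
          · simpa using hj'
          · exfalso; rw [hj'] at hXC; norm_num at hXC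
          · exfalso; rw [hj'] at hXC; norm_num at hXC
        have hxo : orderOf x = 3 := by
          have h1 := orderOf_dvd_natCard (⟨x, hxX⟩ : X)
          rw [Subgroup.orderOf_mk, hX3] at h1
          exact ((Nat.dvd_prime Nat.prime_three).1 h1).resolve_left (by rwa [orderOf_eq_one_iff])
        have hXx : zpowers x = X := eq_of_le_of_card_ge (zpowers_le.2 hxX) (by rw [Nat.card_zpowers, hxo, hX3])
        have hwn : w ∈ normalizer ((zpowers x : Subgroup G) : Set G) := by
          rw [hXx]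
          refine Cfsg.Lib.Local.FixedOrder.mem_normalizer_of_conj_le fun y hy => ?_
          refine ⟨mul_inv_mem_of_fix (hN w hwM.2) hy.1, mem_centralizer_singleton_iff.2 ?_⟩
          have hyt : Commute y t := mem_centralizer_singleton_iff.1 hy.2
          have hwt : Commute w t := (hwc t ht.1).symm
          exact ((hwt.mul_left hyt).mul_left hwt.inv_left).eq
        have hzx : z * x = x * z := by
          by_cases hne : w * x = x * w
          · rw [← hww]
            exact ((show Commute w x from hne).mul_left hne).eq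
          · have e := inv_of_zpowers_three hxo hwn hne
            have e2 : z * x * z⁻¹ = x := by
              rw [← hww, show w * w * x * (w * w)⁻¹ = w * (w * x * w⁻¹) * w⁻¹ by group, e, ← MulAut.conj_apply,
                map_inv, MulAut.conj_apply, e, inv_inv]
            exact mul_inv_eq_iff_eq_mul.1 e2
        obtain ⟨k, hk⟩ := hfix x hx (mem_centralizer_singleton_iff.2 hzx.symm)
        have e : t * x * t⁻¹ = x⁻¹ := by
          rw [← hk, ← MulAut.conj_apply, map_zpow, MulAut.conj_apply, hth, inv_zpow]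
        rw [hxt, mul_inv_cancel_right] at e
        have h2 : x ^ 2 = 1 := by rw [pow_two]; nth_rewrite 2 [e]; exact mul_inv_cancel x
        have := orderOf_dvd_of_pow_eq_one h2
        rw [hxo] at this
        norm_num at this
      -- a fixed-point-free involution inverts every element
      intro x hx
      let f : ↥(P : Subgroup G) → ↥(P : Subgroup G) := fun y =>
        ⟨y⁻¹ * (t * y * t⁻¹), mul_mem (inv_mem y.2) (mul_inv_mem_of_fix htP y.2)⟩
      have hf : Function.Injective f := fun y y' e => by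
        have e' : (y : G)⁻¹ * (t * y * t⁻¹) = (y' : G)⁻¹ * (t * y' * t⁻¹) := congrArg Subtype.val e
        have e'' : t * ((y' : G) * (y : G)⁻¹) = (y' : G) * (y : G)⁻¹ * t := by
          calc t * ((y' : G) * (y : G)⁻¹) = t * y' * t⁻¹ * (t * (y : G)⁻¹ * t⁻¹) * t := by group
            _ = (y' : G) * ((y' : G)⁻¹ * (t * y' * t⁻¹)) * (t * y * t⁻¹)⁻¹ * t := by group
            _ = (y' : G) * ((y : G)⁻¹ * (t * y * t⁻¹)) * (t * y * t⁻¹)⁻¹ * t := by rw [e']
            _ = (y' : G) * (y : G)⁻¹ * t := by group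
        exact Subtype.ext (mul_inv_eq_one.1 (hfree _ (mul_mem y'.2 (inv_mem y.2)) e'')).symm
      obtain ⟨y, hy⟩ := (Finite.injective_iff_surjective.1 hf) ⟨x, hx⟩
      have hxy : x = (y : G)⁻¹ * (t * y * t⁻¹) := (congrArg Subtype.val hy).symm
      have ht2 : t * t = 1 := by rw [← pow_two, ← hto, pow_orderOf_eq_one]
      have hti : t⁻¹ = t := inv_eq_of_mul_eq_one_right ht2
      rw [hxy, hti]
      calc t * ((y : G)⁻¹ * (t * y * t)) * t = t * (y : G)⁻¹ * t * (y : G) * (t * t) := by group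
        _ = t * (y : G)⁻¹ * t * (y : G) := by rw [ht2, mul_one]
        _ = ((y : G)⁻¹ * (t⁻¹ * y * t⁻¹))⁻¹ := by group
        _ = ((y : G)⁻¹ * (t * y * t))⁻¹ := by rw [hti]
    have hzM : z ∈ M := hww ▸ mul_mem hwM hwM
    have hbzc : Commute b z := mem_centralizer_singleton_iff.1 hb.1
    have hb2' : orderOf (b * z) = 2 := orderOf_eq_prime
      (by rw [hbzc.mul_pow, hb2, one_mul, pow_two, H.zz])
      (fun e => hbz ((mul_eq_one_iff_eq_inv.1 e).trans (inv_eq_of_mul_eq_one_right H.zz)))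
    have hzh : z * h * z⁻¹ = h := by
      rw [mul_inv_eq_iff_eq_mul]
      exact (mem_centralizer_singleton_iff.1 hh).symm
    have hbzh : b * z * h * (b * z)⁻¹ = h⁻¹ := by
      rw [show b * z * h * (b * z)⁻¹ = b * (z * h * z⁻¹) * b⁻¹ by group, hzh, hbh]
    have hPC : (P : Subgroup G) ≤ C := fun x hx => by
      have e1 := hinv b hb hbo hbh x hx
      have e2 := hinv (b * z) (mul_mem hb hzM) hb2' hbzh x hx
      refine mem_centralizer_singleton_iff.2 ?_
      have e3 : b * (z * x * z⁻¹) * b⁻¹ = b * x * b⁻¹ := by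
        rw [e1, ← e2]; group
      exact (mul_inv_eq_iff_eq_mul.1 (mul_left_cancel (mul_right_cancel e3))).symm
    have := card_dvd_of_le hPC
    rw [hP, H.cardC] at this
    norm_num at this
  have hgM : g ∈ M := v.2
  have hi4 : i % 4 = 1 ∨ i % 4 = 3 := by
    by_contra hne
    push Not at hne
    have hcase : g ^ 2 = 1 ∨ (g * w) ^ 2 = 1 := by
      rcases show i % 4 = 0 ∨ i % 4 = 2 by omega with e | e
      · left; rw [hgg, e, pow_zero]
      · right; rw [hgwc.mul_pow, hgg, e, ← pow_two, hz2]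
    rcases hcase with e | e
    · rcases eq_or_ne g 1 with e1 | e1
      · exact hgw 0 (by rw [e1, pow_zero])
      · exact hgw 2 ((hnone g hgM e e1).trans hzc)
    · rcases eq_or_ne (g * w) 1 with e1 | e1
      · refine hgw 3 ?_
        rw [mul_eq_one_iff_eq_inv.1 e1]
        exact inv_eq_of_mul_eq_one_right (by rw [← pow_succ']; exact hw4)
      · refine hgw 1 ?_
        have := hnone (g * w) (mul_mem hgM hwM) e e1
        rw [hzc, pow_two] at this
        rw [pow_one]
        exact mul_right_cancel this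
  have h4 : g ^ 4 = z := by
    rw [show (4 : ℕ) = 2 * 2 from rfl, pow_mul, hgg, hzc]
    rcases hi4 with e | e <;> rw [e]
    · rw [pow_one]
    · rw [← pow_mul, show 3 * 2 = 4 + 2 from rfl, pow_add, hw4, one_mul]
  have h8 : orderOf g = 8 := by
    have hp : g ^ 2 ^ (2 + 1) = 1 := by
      rw [show 2 ^ (2 + 1) = 4 * 2 from rfl, pow_mul, h4, hzc, hz2]
    have hq : ¬ g ^ 2 ^ 2 = 1 := by
      rw [show 2 ^ 2 = 4 from rfl, h4]
      exact H.z_ne
    exact orderOf_eq_prime_pow hq hp
  refine ⟨g, hgC, h8, h4, fun c hc => ?_, ?_, hgM.2⟩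
  · rw [hgg]
    exact ((show Commute w c from (hwc c hc).symm).pow_left _)
  · refine inv_of_zpowers_three h3 hgM.2 fun e => ?_
    have hgD : g ∈ C ⊓ centralizer ({h} : Set G) := ⟨hgC, mem_centralizer_singleton_iff.2 e⟩
    have := orderOf_dvd_natCard (⟨g, hgD⟩ : ↥(C ⊓ centralizer ({h} : Set G)))
    rw [Subgroup.orderOf_mk, h8, h12] at this
    norm_num at this

theorem exists_base : ∃ (P Q : Sylow 3 G) (u h : G), Base z P Q u h := by
  classical
  haveI := H.simple
  haveI : Fact (Nat.Prime 2) := ⟨Nat.prime_two⟩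
  haveI : Fact (Nat.Prime 3) := ⟨Nat.prime_three⟩
  obtain ⟨h, hh, h3⟩ := H.exists_three
  obtain ⟨P, hP27, hhP, hcen, hfix, hN⟩ := H.exists_sylow hh h3
  obtain ⟨u, huC, hu8, hu4, hu2, huh, huN⟩ := H.exists_eight hh h3 hP27 hfix hhP hN
  -- the other fixed subgroup of order three
  obtain ⟨hn4, hS3⟩ := H.card_sylow_three
  let x : C := ⟨h, hh⟩
  have hxo : orderOf x = 3 := by rw [Subgroup.orderOf_mk, h3]
  obtain ⟨S, hS⟩ := (IsPGroup.of_card (n := 1) (by rw [Nat.card_zpowers, hxo, pow_one]) :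
    IsPGroup 3 (zpowers x)).exists_le_sylow
  letI := Fintype.ofFinite (Sylow 3 C)
  let σ : Equiv.Perm (Sylow 3 C) := MulAction.toPermHom C (Sylow 3 C) ⟨u, huC⟩
  have hσ2 : σ ^ 2 ^ 1 = 1 := by
    rw [pow_one]
    show (MulAction.toPermHom C (Sylow 3 C) ⟨u, huC⟩) ^ 2 = 1
    rw [← map_pow]
    refine Equiv.ext fun R => Sylow.smul_eq_iff_mem_normalizer.2 (mem_normalizer_iff.2 fun y => ?_)
    have e : (⟨u, huC⟩ : C) ^ 2 * y * ((⟨u, huC⟩ : C) ^ 2)⁻¹ = y := Subtype.ext (by
      simp only [Subgroup.coe_mul, Subgroup.coe_pow, Subgroup.coe_inv]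
      exact mul_inv_eq_iff_eq_mul.2 (hu2 y y.2).eq)
    rw [e]
  have hSfix : σ S = S := by
    refine Sylow.smul_eq_iff_mem_normalizer.2 ?_
    show (⟨u, huC⟩ : C) ∈ normalizer ((S : Subgroup C) : Set C)
    rw [(eq_of_le_of_card_ge hS (by rw [hS3, Nat.card_zpowers, hxo])).symm]
    refine Cfsg.Lib.Local.FixedOrder.mem_normalizer_of_conj_le ?_
    rintro _ ⟨k, rfl⟩
    refine ⟨-k, Subtype.ext ?_⟩
    simp only [x, Subgroup.coe_mul, Subgroup.coe_zpow, Subgroup.coe_inv]
    rw [← MulAut.conj_apply, map_zpow, MulAut.conj_apply, huh, inv_zpow, zpow_neg]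
  have hmod := Equiv.Perm.card_compl_support_modEq hσ2
  rw [← Nat.card_eq_fintype_card, hn4] at hmod
  have h2le : 1 < σ.supportᶜ.card := by
    have hpos : 0 < σ.supportᶜ.card := Finset.card_pos.2 ⟨S, by simp [hSfix]⟩
    unfold Nat.ModEq at hmod
    omega
  obtain ⟨R, hR, hRS⟩ := Finset.exists_mem_ne h2le S
  rw [Finset.mem_compl, Equiv.Perm.mem_support, not_not] at hR
  obtain ⟨y, hy⟩ := exists_prime_orderOf_dvd_card' 3 (show 3 ∣ Nat.card (R : Subgroup C) by rw [hS3])
  set h0 : G := ((y : C) : G) with hh0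
  have h03 : orderOf h0 = 3 := by rw [hh0, Subgroup.orderOf_coe, Subgroup.orderOf_coe, hy]
  have hRy : (R : Subgroup C) = zpowers (y : C) := (eq_of_le_of_card_ge (zpowers_le.2 y.2) (by
    rw [hS3, Nat.card_zpowers, Subgroup.orderOf_coe, hy])).symm
  have hh0ne : h0 ∉ zpowers h := fun ⟨k, hk⟩ => hRS (Sylow.ext (by
    rw [hRy, (eq_of_le_of_card_ge hS (by rw [hS3, Nat.card_zpowers, hxo])).symm]
    refine eq_of_le_of_card_ge (zpowers_le.2 ⟨k, Subtype.ext ?_⟩) ?_
    · simpa [x, h0] using hk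
    · rw [Nat.card_zpowers, Nat.card_zpowers, hxo, Subgroup.orderOf_coe, hy]))
  have huh0 : u ∈ normalizer ((zpowers h0 : Subgroup G) : Set G) := by
    refine Cfsg.Lib.Local.FixedOrder.mem_normalizer_of_conj_le ?_
    rintro _ ⟨k, rfl⟩
    have hn : (⟨u, huC⟩ : C) ∈ normalizer ((R : Subgroup C) : Set C) := Sylow.smul_eq_iff_mem_normalizer.1 hR
    have hm : (⟨u, huC⟩ : C) * (y : C) ^ k * (⟨u, huC⟩ : C)⁻¹ ∈ zpowers (y : C) := by
      rw [← hRy]
      exact (mem_normalizer_iff.1 hn _).1 (zpow_mem y.2 k)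
    obtain ⟨j, hj⟩ := hm
    refine ⟨j, ?_⟩
    simpa [h0] using congrArg (Subtype.val : C → G) hj
  obtain ⟨Q, hQ27, hh0Q, hcen0, hfix0, hN0⟩ := H.exists_sylow (y : C).2 h03
  have hne : Q ≠ P := fun e => hh0ne (hfix h0 (e ▸ hh0Q) (y : C).2)
  -- the two subgroups are independent
  have hzP : z • P = P := by
    rw [← hu4]
    exact Sylow.smul_eq_iff_mem_normalizer.2 (pow_mem (Sylow.smul_eq_iff_mem_normalizer.1 (hN u huN)) 4)
  have hzQ : z • Q = Q := by
    rw [← hu4]
    exact Sylow.smul_eq_iff_mem_normalizer.2 (pow_mem (Sylow.smul_eq_iff_mem_normalizer.1 (hN0 u huh0)) 4)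
  have hfree : ∀ g ∈ (P : Subgroup G), g • Q = Q → g = 1 := by
    intro g hg hgQ
    have hgQ' : g ∈ (Q : Subgroup G) := by
      have h2 : (P : Subgroup G) ⊓ normalizer ((Q : Subgroup G) : Set G) = (P : Subgroup G) ⊓ (Q : Subgroup G) :=
        P.2.inf_normalizer_sylow Q
      have hm : g ∈ (P : Subgroup G) ⊓ normalizer ((Q : Subgroup G) : Set G) :=
        ⟨hg, Sylow.smul_eq_iff_mem_normalizer.1 hgQ⟩
      rw [h2] at hm
      exact hm.2
    set v := g⁻¹ * (z * g * z⁻¹) with hv
    have hvP : v ∈ (P : Subgroup G) := mul_mem (inv_mem hg) (mul_inv_mem_of_fix hzP hg)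
    have hvQ : v ∈ (Q : Subgroup G) := mul_mem (inv_mem hgQ') (mul_inv_mem_of_fix hzQ hgQ')
    have hcl : closure ({h, h0} : Set G) ≤ centralizer ({v} : Set G) := (closure_le _).2
      (Set.insert_subset (mem_centralizer_singleton_iff.2 (hcen v hvP).eq.symm)
        (Set.singleton_subset_iff.2 (mem_centralizer_singleton_iff.2 (hcen0 v hvQ).eq.symm)))
    have hzv : z * v = v * z :=
      mem_centralizer_singleton_iff.1 (hcl (H.z_mem_closure hh (y : C).2 h3 h03 hh0ne))
    have hvC : v ∈ C := mem_centralizer_singleton_iff.2 hzv.symm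
    have hv1 : v = 1 := by
      obtain ⟨k, hk⟩ := hfix v hvP hvC
      obtain ⟨j, hj⟩ := hfix0 v hvQ hvC
      by_contra hne'
      refine hh0ne ?_
      have e1 : zpowers v = zpowers h := eq_of_le_of_card_ge (zpowers_le.2 ⟨k, hk⟩) (by
        rw [Nat.card_zpowers, Nat.card_zpowers, h3]
        have hd := orderOf_dvd_of_mem_zpowers (⟨k, hk⟩ : v ∈ zpowers h)
        rw [h3] at hd
        rcases (Nat.dvd_prime Nat.prime_three).1 hd with e | e
        · exact absurd (orderOf_eq_one_iff.1 e) hne'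
        · rw [e])
      have e2 : zpowers v = zpowers h0 := eq_of_le_of_card_ge (zpowers_le.2 ⟨j, hj⟩) (by
        rw [Nat.card_zpowers, Nat.card_zpowers, h03, ← h3, ← Nat.card_zpowers h, ← e1, Nat.card_zpowers])
      exact (e1.symm.trans e2) ▸ mem_zpowers h0
    rw [hv, inv_mul_eq_one] at hv1
    have hgC : g ∈ C := mem_centralizer_singleton_iff.2 (mul_inv_eq_iff_eq_mul.1 hv1.symm).symm
    by_contra hne'
    obtain ⟨k, hk⟩ := hfix g hg hgC
    obtain ⟨j, hj⟩ := hfix0 g hgQ' hgC
    refine hh0ne ?_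
    have hd := orderOf_dvd_of_mem_zpowers (⟨k, hk⟩ : g ∈ zpowers h)
    rw [h3] at hd
    have hgo : orderOf g = 3 := ((Nat.dvd_prime Nat.prime_three).1 hd).resolve_left (by rwa [orderOf_eq_one_iff])
    have e1 : zpowers g = zpowers h :=
      eq_of_le_of_card_ge (zpowers_le.2 ⟨k, hk⟩) (by rw [Nat.card_zpowers, Nat.card_zpowers, h3, hgo])
    have e2 : zpowers g = zpowers h0 :=
      eq_of_le_of_card_ge (zpowers_le.2 ⟨j, hj⟩) (by rw [Nat.card_zpowers, Nat.card_zpowers, h03, hgo])
    exact (e1.symm.trans e2) ▸ mem_zpowers h0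
  -- the normalizer
  set N := normalizer ((P : Subgroup G) : Set G) with hNdef
  have h216 : 216 ∣ Nat.card N := by
    have h8 : 8 ∣ Nat.card N := by
      have e : orderOf (⟨u, Sylow.smul_eq_iff_mem_normalizer.1 (hN u huN)⟩ : N) = 8 := by
        rw [Subgroup.orderOf_mk, hu8]
      exact e ▸ orderOf_dvd_natCard _
    have h27 : 27 ∣ Nat.card N := hP27 ▸ card_dvd_of_le le_normalizer
    exact Nat.Coprime.mul_dvd_of_dvd_of_dvd (by norm_num : Nat.Coprime 8 27) h8 h27
  have hmul := index_mul_card N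
  rw [H.card] at hmul
  have hn : Nat.card (Sylow 3 G) = N.index := P.card_eq_index_normalizer
  have hidx : N.index ∣ 28 := by
    obtain ⟨c, hc⟩ := h216
    rw [hc] at hmul
    exact ⟨c, by linarith⟩
  have h28 : N.index = 28 := by
    have hle := Nat.le_of_dvd (by norm_num) hidx
    by_contra hne'
    have hle14 : N.index ≤ 7 := by
      have hm3 := card_sylow_modEq_one 3 G
      rw [hn, Nat.ModEq] at hm3
      interval_cases hN' : N.index <;> omega
    -- too few points for a faithful action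
    have hinj : Function.Injective (MulAction.toPermHom G (Sylow 3 G)) :=
      (injective_iff_map_eq_one _).2 fun g hg => H.fix_all fun R => Equiv.congr_fun hg R
    have hd := Nat.card_le_card_of_injective _ hinj
    rw [H.card, Nat.card_perm, hn] at hd
    have := Nat.factorial_le hle14
    norm_num [Nat.factorial] at this
    omega
  refine ⟨P, Q, u, h, hu8, hu4, H.hz, hN u huN, hN0 u huh0, hne, hP27, hn.trans h28, ?_, hfree, hhP, hh, h3,
    hcen, hfix, huh⟩
  rw [h28] at hmul
  show Nat.card N = 216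
  omega

end Hyp

end Cfsg.Lib.LenSeven.UThree
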