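import Cfsg.Agent.Lib.LenSeven.UThree.Points
import Cfsg.Agent.Lib.Recog.G2Two.Unique
import Cfsg.Agent.Lib.Recog.G2Two.Model
import Cfsg.Agent.Lib.U33.Borel
import Cfsg.Agent.S1057

/-!
# A simple group of order `6048` with the local structure is unitary
-/

set_option autoImplicit false
set_option linter.style.haveILetI false
set_option linter.unusedSectionVars false

namespace Cfsg.Lib.LenSeven.UThree

open Subgroup MulAction Cfsg.Lib.Recog.G2Two

theorem permW_mem : ∀ e : Fin 2, ∀ a : Fin 8, permW e.1 a.1 ∈ tpW.getD e.1 [] := by decide +kernel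

theorem reps_sep : ([0, 1].all fun e => (List.range 4).all fun j => (List.range j).all fun i =>
    (List.range 8).all fun a => !(Nat.beq (pget (permW e a) (repsW.getD i 0)) (repsW.getD j 0))) = true := by
  decide +kernel

theorem codes_ok : (modelH.surv.getD 0 0 :: modelH.tp).all (fun p =>
    ((List.range 28).all fun i => (List.range 28).all fun j =>
      !(Nat.beq (pget p i % 28) (pget p j % 28)) || Nat.beq i j) &&
    Nat.beq (pack ((List.range 28).map fun i => pget p i % 28)) p) = true := by decide +kernel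

/-- Every listed code is the code of a permutation. -/
theorem exists_perm_of_code {p : ℕ} (hp : p ∈ modelH.surv.getD 0 0 :: modelH.tp) :
    ∃ σ : Equiv.Perm (Fin 28), encP σ = p := by
  have h := List.all_eq_true.1 codes_ok p hp
  simp only [Bool.and_eq_true, List.all_eq_true, List.mem_range, Bool.or_eq_true, Bool.not_eq_true'] at h
  obtain ⟨h1, h2⟩ := h
  let f : Fin 28 → Fin 28 := fun i => ⟨pget p i % 28, Nat.mod_lt _ (by norm_num)⟩
  have hf : Function.Injective f := fun i j e => by
    rcases h1 i i.2 j j.2 with h | h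
    · exact absurd (congrArg Fin.val e :) (Nat.ne_of_beq_eq_false h)
    · exact Fin.ext (Nat.eq_of_beq_eq_true h)
  refine ⟨Equiv.ofBijective f (Finite.injective_iff_bijective.1 hf), ?_⟩
  refine Eq.trans ?_ (Nat.eq_of_beq_eq_true h2)
  rw [encP]
  congr 1

variable {G : Type*} [Group G] [Finite G] [Fact (Nat.Prime 3)] {z u h : G} {P Q : Sylow 3 G} {e : ℕ}

namespace Setting

theorem rho_pow (d : Setting z P Q u h e) : ∀ a < 8, encP (d.rho (u ^ a)) = permW e a := by
  have ht := List.all_eq_true.1 tpW_eq e (by have := d.he; interval_cases e <;> simp)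
  simp only [Bool.and_eq_true, List.all_eq_true] at ht
  obtain ⟨-, h0, hs⟩ := ht
  intro a
  induction a with
  | zero =>
    intro _
    rw [pow_zero, map_one, Nat.eq_of_beq_eq_true h0, encP]
    congr 1
  | succ a ih =>
    intro ha
    have hm : a ∈ [0, 1, 2, 3, 4, 5, 6, 7] := by
      have : a < 7 := by omega
      interval_cases a <;> simp
    have e1 := Nat.eq_of_beq_eq_true (hs a hm)
    rw [Nat.mod_eq_of_lt ha] at e1
    rw [pow_succ', map_mul, ← pmul_encP, ih (by omega), d.rho_u, e1]

theorem rho_last (d : Setting z P Q u h e) : d.point ⟨27, by norm_num⟩ = P := d.point_last (by norm_num)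

/-- A swap normalised at the first representative. -/
theorem exists_first (d : Setting z P Q u h e) : ∃ (τ : G) (k : ℕ), τ • P = Q ∧ τ • Q = P ∧
    (k = 1 ∨ k = 3 ∨ k = 5 ∨ k = 7) ∧ τ * u * τ⁻¹ = u ^ k ∧ pget (encP (d.rho τ)) 1 ∈ repsW := by
  obtain ⟨τ, hτ, hτ0⟩ := d.exists_swap
  have e1 : τ⁻¹ • P = Q := inv_smul_eq_iff.2 hτ0.symm
  have e2 : τ⁻¹ • Q = P := inv_smul_eq_iff.2 hτ.symm
  obtain ⟨k, hk, hku⟩ := d.mem_torus (g := τ * u * τ⁻¹)
    (by rw [mul_smul, mul_smul, e1, d.base.fixQ, hτ0]) (by rw [mul_smul, mul_smul, e2, d.base.fixP, hτ])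
  have hkodd : k = 1 ∨ k = 3 ∨ k = 5 ∨ k = 7 := by
    by_contra hne
    have h4 : (τ * u * τ⁻¹) ^ 4 = 1 := by
      obtain ⟨r, rfl⟩ : 2 ∣ k := by omega
      rw [hku, ← pow_mul, show 2 * r * 4 = 8 * r by ring, pow_mul, ← d.base.order, pow_orderOf_eq_one, one_pow]
    rw [conj_pow, mul_inv_eq_one, mul_eq_left] at h4
    have := orderOf_dvd_of_pow_eq_one h4
    rw [d.base.order] at this
    norm_num at this
  -- the image of the first representative is an inner point
  set i : Fin 28 := ⟨1, by norm_num⟩ with hi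
  have hp : d.point i ≠ P := d.point_ne (show i.1 < 27 by simp [hi])
  have hp0 : d.point i ≠ Q := fun e' => by
    have := congrArg Fin.val (d.point_bijective.1 (e'.trans d.point_zero.symm))
    simp [hi] at this
  have hy : (d.rho τ i).1 < 27 ∧ 1 ≤ (d.rho τ i).1 := by
    have e' := d.point_rho τ i
    constructor
    · by_contra hn
      rw [d.point_last hn] at e'
      exact hp0 (smul_left_cancel τ (e'.symm.trans hτ0.symm))
    · by_contra hn
      have e0 : d.rho τ i = ⟨0, by norm_num⟩ := Fin.ext (by show (d.rho τ i).1 = 0; omega)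
      rw [e0, d.point_zero] at e'
      exact hp (smul_left_cancel τ (e'.symm.trans hτ.symm))
  have hc := List.all_eq_true.1 (List.all_eq_true.1 coordW_ok e (by have := d.he; interval_cases e <;> simp))
    ((d.rho τ i).1 - 1) (List.mem_range.2 (by omega))
  simp only [Bool.and_eq_true, decide_eq_true_eq] at hc
  obtain ⟨ha8, hr4, hc3⟩ := hc
  set a := (coordW.getD ((d.rho τ i).1 - 1) (0, 0)).1
  set r := repsW.getD (coordW.getD ((d.rho τ i).1 - 1) (0, 0)).2 0 with hr
  have hrmem : r ∈ repsW := by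
    rw [hr, List.getD_eq_getElem _ _ (show _ < repsW.length from hr4)]
    exact List.getElem_mem _
  have hr28 : r < 28 := by
    have : ∀ r ∈ repsW, r < 28 := by decide
    exact this r hrmem
  refine ⟨(u ^ a)⁻¹ * τ, k, by rw [mul_smul, hτ, inv_smul_eq_iff, d.pow_fixQ],
    by rw [mul_smul, hτ0, inv_smul_eq_iff, d.pow_fixP], hkodd, ?_, ?_⟩
  · calc (u ^ a)⁻¹ * τ * u * ((u ^ a)⁻¹ * τ)⁻¹ = (u ^ a)⁻¹ * (τ * u * τ⁻¹) * u ^ a := by group
      _ = (u ^ a)⁻¹ * (u ^ k * u ^ a) := by rw [hku]; group
      _ = (u ^ a)⁻¹ * (u ^ a * u ^ k) := by rw [← pow_add, ← pow_add, add_comm k a]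
      _ = u ^ k := by group
  · have et : d.rho (u ^ a) ⟨r, hr28⟩ = d.rho τ i := by
      refine Fin.ext ?_
      rw [← pget_encP, d.rho_pow a ha8]
      have := Nat.eq_of_beq_eq_true hc3
      show pget (permW e a) r = _
      omega
    have e' : d.rho ((u ^ a)⁻¹ * τ) i = ⟨r, hr28⟩ := by
      rw [map_mul, Equiv.Perm.mul_apply, ← et, ← Equiv.Perm.mul_apply, ← map_mul, inv_mul_cancel, map_one,
        Equiv.Perm.one_apply]
    rw [show pget (encP (d.rho ((u ^ a)⁻¹ * τ))) 1 = _ from pget_encP _ i, e']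
    exact hrmem

/-- The word in a swap fixes the last point and lies in the torus after a translation. -/
theorem word_ok (d : Setting z P Q u h e) {τ : G} (hp27 : pget (encP (d.rho τ)) 27 = 0)
    (hp0 : pget (encP (d.rho τ)) 0 = 27) {g : ℕ} (hg : g < 27) (hpg : pget (encP (d.rho τ)) g < 27) :
    wordOkW e (encP (d.rho τ)) g = true := by
  set π := d.rho τ with hπ
  set q := invN (pget (encP π) g) with hqdef
  obtain ⟨hq, hq0, -⟩ := label_inv ⟨e, d.he⟩ ⟨_, hpg⟩
  change q < 27 at hq
  change mulN e q (pget (encP π) g) = 0 at hq0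
  set k := τ * ((d.lab.equiv ⟨q, hq⟩ : ↥(P : Subgroup G)) : G) * τ *
    ((d.lab.equiv ⟨g, hg⟩ : ↥(P : Subgroup G)) : G) * τ with hk
  have hkv : ∀ i : Fin 28, (d.rho k i).1 = wordW e (encP π) g i.1 := by
    intro i
    have et : trt e g = encP (d.rho ((d.lab.equiv ⟨g, hg⟩ : ↥(P : Subgroup G)) : G)) := by
      rw [d.rho_trans, trt_eq d.he hg]
    have eq' : trt e q = encP (d.rho ((d.lab.equiv ⟨q, hq⟩ : ↥(P : Subgroup G)) : G)) := by
      rw [d.rho_trans, trt_eq d.he hq]
    rw [wordW, ← hqdef, et, eq', pget_encP π i, pget_encP, pget_encP, pget_encP, pget_encP, hk, map_mul,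
      map_mul, map_mul, map_mul]
    rfl
  have hw27 : wordW e (encP π) g 27 = 27 := by
    have e0 : mulN e g 0 = g := (label_inv ⟨e, d.he⟩ ⟨g, hg⟩).2.2
    rw [wordW, ← hqdef, hp27, trt_eq d.he hg, trt_eq d.he hq, pget_trp e g (show 0 < 27 by norm_num), e0,
      pget_trp e q hpg, hq0, hp0]
  have hkP : k • P = P := by
    have e27 : d.rho k ⟨27, by norm_num⟩ = ⟨27, by norm_num⟩ := Fin.ext ((hkv _).trans hw27)
    have := d.point_rho k ⟨27, by norm_num⟩
    rw [e27, d.rho_last] at this
    exact this.symm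
  obtain ⟨c, j, hj, hct⟩ := d.exists_dec hkP
  have hc : wordW e (encP π) g 0 = c.1 := by
    have e0 : d.rho k ⟨0, by norm_num⟩ = ⟨c.1, by omega⟩ := by
      refine d.rho_eq ?_
      rw [d.point_zero, d.point_lt (i := ⟨c.1, _⟩) c.2, hct, mul_smul, d.pow_fixQ]
    exact (hkv ⟨0, by norm_num⟩).symm.trans (congrArg Fin.val e0)
  obtain ⟨hi, hi0, -⟩ := label_inv ⟨e, d.he⟩ c
  have key : ∀ i : Fin 28, pget (permW e j) i =
      pget (trt e (invN (wordW e (encP π) g 0))) (wordW e (encP π) g i) := by
    intro i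
    have et : trt e (invN c.1) = encP (d.rho ((d.lab.equiv ⟨invN c.1, hi⟩ : ↥(P : Subgroup G)) : G)) := by
      rw [d.rho_trans, trt_eq d.he hi]
    rw [← d.rho_pow j hj, hc, et, ← hkv, pget_encP, pget_encP, hct, map_mul, Equiv.Perm.mul_apply]
    have hz : ((d.lab.equiv ⟨invN c.1, hi⟩ : ↥(P : Subgroup G)) : G) *
        ((d.lab.equiv c : ↥(P : Subgroup G)) : G) = 1 := by
      rw [← Subgroup.coe_mul, ← d.lab.mul, show mulF e ⟨invN c.1, hi⟩ c = 0 from Fin.ext hi0, d.lab.zero,
        Subgroup.coe_one]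
    rw [← Equiv.Perm.mul_apply (d.rho _) (d.rho _), ← map_mul, hz, map_one, Equiv.Perm.one_apply]
  simp only [wordOkW, inT, List.any_eq_true, Bool.and_eq_true]
  refine ⟨_, permW_mem ⟨e, d.he⟩ ⟨j, hj⟩, ?_, ?_, ?_⟩
  · rw [show pget (permW e j) 1 = _ from key 1]; simp
  · rw [show pget (permW e j) 3 = _ from key 3]; simp
  · rw [show pget (permW e j) 9 = _ from key 9]; simp

set_option maxHeartbeats 1000000 in
/-- **The swap is one of the survivors.** -/
theorem swap_mem (d : Setting z P Q u h e) {τ : G} {k : ℕ} (hτ : τ • P = Q) (hτ0 : τ • Q = P)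
    (hk : k = 1 ∨ k = 3 ∨ k = 5 ∨ k = 7) (hku : τ * u * τ⁻¹ = u ^ k)
    (hfirst : pget (encP (d.rho τ)) 1 ∈ repsW) : encP (d.rho τ) ∈ survW.getD e [] := by
  classical
  have he := d.he
  have hmem : e ∈ [0, 1] := by simp only [List.mem_cons, List.not_mem_nil, or_false]; omega
  set π := d.rho τ with hπ
  let pv : ℕ → ℕ := pget (encP π)
  have hpv : ∀ i : Fin 28, pv i = (π i).1 := pget_encP π
  have hpvlt : ∀ i < 28, pv i < 28 := fun i hi => by
    rw [show pv i = (π ⟨i, hi⟩).1 from hpv ⟨i, hi⟩]; exact (π ⟨i, hi⟩).2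
  have hpvinj : ∀ i < 28, ∀ j < 28, pv i = pv j → i = j := fun i hi j hj e' => by
    rw [show pv i = (π ⟨i, hi⟩).1 from hpv ⟨i, hi⟩, show pv j = (π ⟨j, hj⟩).1 from hpv ⟨j, hj⟩] at e'
    exact congrArg Fin.val (π.injective (Fin.ext e'))
  have hp0 : pv 0 = 27 := by
    rw [show pv 0 = (π ⟨0, by norm_num⟩).1 from hpv ⟨0, by norm_num⟩,
      d.rho_eq (j := ⟨27, by norm_num⟩) (by rw [d.point_zero, d.rho_last, hτ0])]
  have hp27 : pv 27 = 0 := by
    rw [show pv 27 = (π ⟨27, by norm_num⟩).1 from hpv ⟨27, by norm_num⟩,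
      d.rho_eq (j := ⟨0, by norm_num⟩) (by rw [d.rho_last, d.point_zero, hτ])]
  have hpmid : ∀ i, 1 ≤ i → i < 27 → 1 ≤ pv i ∧ pv i < 27 := fun i h1i h2i => by
    have hlt := hpvlt i (by omega)
    refine ⟨Nat.one_le_iff_ne_zero.2 fun e' => ?_, ?_⟩
    · have := hpvinj i (by omega) 27 (by norm_num) (e'.trans hp27.symm); omega
    · by_contra hn
      have := hpvinj i (by omega) 0 (by norm_num) ((show pv i = 27 by omega).trans hp0.symm)
      omega
  have hplt : ∀ a < 8, ∀ i < 28, pget (permW e a) i < 28 := fun a ha i hi => by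
    rw [← d.rho_pow a ha, show pget (encP (d.rho (u ^ a))) i = _ from pget_encP _ ⟨i, hi⟩]
    exact Fin.is_lt _
  have hequi : ∀ a < 8, ∀ i < 28, pv (pget (permW e a) i) = pget (permW e (a * k % 8)) (pv i) := by
    intro a ha i hi
    rw [← d.rho_pow a ha, ← d.rho_pow _ (Nat.mod_lt _ (by norm_num)),
      show pget (encP (d.rho (u ^ a))) i = _ from pget_encP _ ⟨i, hi⟩, hpv,
      show pv i = (π ⟨i, hi⟩).1 from hpv ⟨i, hi⟩, pget_encP,
      show u ^ (a * k % 8) = τ * u ^ a * τ⁻¹ by
        rw [← d.base.order, pow_mod_orderOf, mul_comm, pow_mul, ← hku, conj_pow],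
      map_mul, map_mul, map_inv]
    simp [hπ]
  have hopts : ∀ r, 1 ≤ r → r < 27 → pv r ∈ optsW e k r := by
    intro r hr1 hr2
    rw [optsW, List.mem_filter, List.all_eq_true]
    have hm := hpmid r hr1 hr2
    refine ⟨by rw [List.mem_range'_1]; omega, fun a ha => ?_⟩
    have ha8 : a < 8 := by simp at ha; omega
    rw [← hequi a ha8 r (by omega)]
    refine beq_iff_eq.2 (Bool.eq_iff_iff.2 ⟨fun e' => ?_, fun e' => ?_⟩)
    · rw [Nat.eq_of_beq_eq_true e']; simp
    · rw [hpvinj _ (hplt a ha8 r (by omega)) r (by omega) (Nat.eq_of_beq_eq_true e')]; simp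
  have hsep := List.all_eq_true.1 reps_sep e hmem
  simp only [List.all_eq_true, List.mem_range, Bool.not_eq_true'] at hsep
  have hused : ∀ j < 4, usedW e (((List.range j).map fun i => pv (repsW.getD i 0))) (pv (repsW.getD j 0)) = false := by
    intro j hj
    by_contra hu
    rw [Bool.not_eq_false] at hu
    simp only [usedW, List.any_eq_true, List.mem_map, List.mem_range] at hu
    obtain ⟨_, ⟨i, hi, rfl⟩, b, hb, hbe⟩ := hu
    have hb8 : b < 8 := by simp at hb; omega
    have hinv : b * k % 8 * k % 8 = b := by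
      rcases hk with rfl | rfl | rfl | rfl <;> omega
    have hr : ∀ i < 4, repsW.getD i 0 < 28 := by decide
    have e' := Nat.eq_of_beq_eq_true hbe
    rw [← hinv, ← hequi _ (Nat.mod_lt _ (by norm_num)) _ (hr i (by omega))] at e'
    have e'' := hpvinj _ (hplt _ (Nat.mod_lt _ (by norm_num)) _ (hr i (by omega))) _ (hr j hj) e'
    have := hsep j hj i hi (b * k % 8) (Nat.mod_lt _ (by norm_num))
    rw [e''] at this
    simp at this
  have hs : searchW e k = true :=
    List.all_eq_true.1 (List.all_eq_true.1 searchW_all e hmem) k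
      (by rcases hk with rfl | rfl | rfl | rfl <;> simp)
  simp only [searchW, List.all_eq_true, List.mem_filter, List.any_eq_true, and_imp, Bool.or_eq_true] at hs
  have h1 := hs (pv 1) (hopts 1 le_rfl (by norm_num)) ⟨pv 1, hfirst, by simp⟩ (pv 9) (hopts 9 (by norm_num) (by norm_num))
  have hu1 := hused 1 (by norm_num)
  have hu2 := hused 2 (by norm_num)
  have hu3 := hused 3 (by norm_num)
  simp only [List.range_succ, List.range_zero, List.map_append, List.map_nil, List.map_cons, List.nil_append,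
    List.cons_append, List.append_assoc, repsW, List.getD_cons_zero, List.getD_cons_succ] at hu1 hu2 hu3
  rw [hu1] at h1
  have h2 := h1.resolve_left (by simp) (pv 10) (hopts 10 (by norm_num) (by norm_num))
  rw [hu2] at h2
  have h3 := h2.resolve_left (by simp) (pv 12) (hopts 12 (by norm_num) (by norm_num))
  rw [hu3] at h3
  have hcand := h3.resolve_left (by simp)
  have hcl : coordW.length = 26 := rfl
  have hco := List.all_eq_true.1 coordW_ok e hmem
  simp only [List.all_eq_true, List.mem_range, Bool.and_eq_true, decide_eq_true_eq] at hco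
  have hbuild : buildW e k [pv 1, pv 9, pv 10, pv 12] = (List.range 28).map pv := by
    have hmid : coordW.map (fun c => pget (permW e (c.1 * k % 8)) ([pv 1, pv 9, pv 10, pv 12].getD c.2 0)) =
        (List.range 26).map fun y => pv (y + 1) := by
      refine List.ext_getElem (by simp [hcl]) fun y hy1 hy2 => ?_
      rw [List.length_map, List.length_range] at hy2
      obtain ⟨hc1, hc2, hc3⟩ := hco y hy2
      have hck : coordW.getD y (0, 0) = coordW[y]'(by omega) := List.getD_eq_getElem _ _ _
      rw [hck] at hc1 hc2 hc3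
      rw [List.getElem_map, List.getElem_map, List.getElem_range]
      have hsel : [pv 1, pv 9, pv 10, pv 12].getD (coordW[y]'(by omega)).2 0 =
          pv (repsW.getD (coordW[y]'(by omega)).2 0) := by
        interval_cases (coordW[y]'(by omega)).2 <;> rfl
      have hr : ∀ i < 4, repsW.getD i 0 < 28 := by decide
      rw [hsel, ← hequi _ hc1 _ (hr _ hc2), Nat.eq_of_beq_eq_true hc3]
    rw [buildW, hmid, show (List.range 28) = 0 :: ((List.range 26).map (· + 1)) ++ [27] by decide,
      List.map_append, List.map_cons, List.map_map, List.map_singleton, hp0, hp27]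
    rfl
  have hpack : pack ((List.range 28).map pv) = encP π := by
    rw [encP]
    congr 1
    refine List.map_congr_left fun i hi => ?_
    rw [List.mem_range] at hi
    rw [dif_pos hi]
    exact hpv ⟨i, hi⟩
  simp only [candOkW, hbuild, hpack, Bool.or_eq_true, Bool.not_eq_true', List.contains_iff_mem] at hcand
  have hP : Model.permOk ((List.range 28).map pv) = true := by
    rw [Model.permOk, sum_eq_of_perm 28 pv hpvlt hpvinj]
    decide +kernel
  have hsquare : squareOkW e (encP π) = true := by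
    obtain ⟨j, hj, hjs⟩ := d.mem_torus (g := τ * τ) (by rw [mul_smul, hτ, hτ0]) (by rw [mul_smul, hτ0, hτ])
    have key : ∀ i : Fin 28, pget (permW e j) i = pget (encP π) (pget (encP π) i) := fun i => by
      rw [← d.rho_pow j hj, ← hjs, pget_encP, pget_encP, pget_encP, map_mul]
      rfl
    simp only [squareOkW, inT, List.any_eq_true, Bool.and_eq_true]
    refine ⟨_, permW_mem ⟨e, d.he⟩ ⟨j, hj⟩, ?_, ?_, ?_⟩
    · rw [show pget (permW e j) 1 = _ from key 1]; simp
    · rw [show pget (permW e j) 3 = _ from key 3]; simp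
    · rw [show pget (permW e j) 9 = _ from key 9]; simp
  have hword : ∀ g, 1 ≤ g → g < 27 → wordOkW e (encP π) g = true := fun g hg1 hg2 =>
    d.word_ok hp27 hp0 hg2 (hpmid g hg1 hg2).2
  rw [hP, hsquare, hword 1 le_rfl (by norm_num), hword 10 (by norm_num) (by norm_num)] at hcand
  simpa using hcand

/-- The image lies in the model. -/
theorem range_le (d : Setting z P Q u h e) : d.rho.range ≤ Subgroup.closure modelSet := by
  obtain ⟨τ, k, hτ, hτ0, hk, hku, hfirst⟩ := d.exists_first
  have hs := d.swap_mem hτ hτ0 hk hku hfirst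
  rcases show e = 0 ∨ e = 1 by have := d.he; omega with rfl | rfl
  · rw [survW_zero] at hs
    exact absurd hs (by simp)
  obtain ⟨a, ha, hae⟩ := List.any_eq_true.1 (List.all_eq_true.1 survW_model _ hs)
  rw [List.mem_range] at ha
  have htp : modelH.perm a ∈ modelH.tp := by
    rw [Model.perm, List.getD_eq_getElem _ _ (show a < modelH.tp.length by
      rw [show modelH.tp.length = 16 from rfl]; exact ha)]
    exact List.getElem_mem _
  obtain ⟨σ, hσ⟩ := exists_perm_of_code (p := modelH.surv.getD 0 0) List.mem_cons_self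
  obtain ⟨ξ, hξ⟩ := exists_perm_of_code (p := modelH.perm a) (List.mem_cons_of_mem _ htp)
  have hτeq : d.rho τ = σ * ξ := encP_injective (by
    rw [← pmul_encP, hσ, hξ, Nat.eq_of_beq_eq_true hae])
  rintro _ ⟨g, rfl⟩
  refine d.mem_of_gens hτ _ (fun c => ?_) ?_ ?_ g
  · exact Subgroup.subset_closure (List.mem_append_left _ (List.mem_append_left _
      (List.mem_map.2 ⟨c.1, List.mem_range.2 c.2, (d.rho_trans c).symm⟩)))
  · refine Subgroup.subset_closure (List.mem_append_left _ (List.mem_append_right _ ?_))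
    have h1 := d.rho_pow 1 (by norm_num)
    rw [pow_one] at h1
    rw [h1]
    have := List.all_eq_true.1 tpW_model _ (permW_mem 1 1)
    simpa using this
  · rw [hτeq]
    refine mul_mem ?_ ?_
    · exact Subgroup.subset_closure (List.mem_append_right _ (List.mem_singleton.2 hσ))
    · exact Subgroup.subset_closure (List.mem_append_left _ (List.mem_append_right _ (hξ ▸ htp)))

end Setting

theorem commutator_map_equiv {A B : Type*} [Group A] [Group B] (E : A ≃* B) :
    Nonempty (↥(commutator A) ≃* ↥(commutator B)) := by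
  have hmap : (commutator A).map E.toMonoidHom = commutator B := by
    rw [commutator_def, Subgroup.map_commutator, commutator_def,
      ← MonoidHom.range_eq_map, (MonoidHom.range_eq_top (f := E.toMonoidHom)).2 E.surjective]
  exact ⟨(Subgroup.equivMapOfInjective _ E.toMonoidHom E.injective).trans (MulEquiv.subgroupCongr hmap)⟩

/-- **The group is the unitary group.** -/
theorem nonempty_equiv_psu {G : Type*} [Group G] [Finite G] {z : G} (H : Hyp G z) :
    ∃ (F : Type) (_ : Field F) (_ : Fintype F), Fintype.card F = 9 ∧ Nonempty (G ≃* Cfsg.PSU 3 F 3) := by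
  classical
  haveI : Fact (Nat.Prime 3) := ⟨Nat.prime_three⟩
  haveI : Fact (Nat.Prime 2) := ⟨Nat.prime_two⟩
  letI : Fintype (GaloisField 3 2) := Fintype.ofFinite _
  have hK : Fintype.card (GaloisField 3 2) = 9 := by
    rw [← Nat.card_eq_fintype_card, GaloisField.card 3 2 two_ne_zero]; norm_num
  refine ⟨GaloisField 3 2, inferInstance, inferInstance, hK, ?_⟩
  obtain ⟨P, Q, u, h, e, ⟨d⟩⟩ := H.exists_setting
  have hF : Fintype.card (ZMod 2) = 2 := ZMod.card 2
  have hM := hyp_g2two hF
  haveI := hM.finite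
  obtain ⟨E⟩ := hM.equiv_model
  have hMc : Nat.card ↥(Subgroup.closure modelSet) = 12096 := by rw [← Nat.card_congr E.toEquiv, hM.card]
  set R := d.rho.range.subgroupOf (Subgroup.closure modelSet) with hR
  have hRc : Nat.card R = 6048 := by
    rw [hR, Nat.card_congr (subgroupOfEquivOfLe d.range_le).toEquiv,
      ← Nat.card_congr (MonoidHom.ofInjective d.rho_injective).toEquiv, H.card]
  have hidx : R.index = 2 := by
    have := card_mul_index R
    rw [hRc, hMc] at this
    omega
  have hle : commutator ↥(Subgroup.closure modelSet) ≤ R := by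
    rw [commutator_def, Subgroup.commutator_le]
    intro a _ b _
    rw [commutatorElement_def, Subgroup.mul_mem_iff_of_index_two hidx, Subgroup.mul_mem_iff_of_index_two hidx,
      Subgroup.mul_mem_iff_of_index_two hidx, inv_mem_iff, inv_mem_iff]
    tauto
  obtain ⟨E1⟩ := commutator_map_equiv E
  obtain ⟨E2⟩ := Cfsg.Agent.S1057.result hF hK
  have hpsu : Nat.card (Cfsg.PSU 3 (GaloisField 3 2) 3) = 6048 := by
    have hK' : Fintype.card (GaloisField 3 2) = 3 ^ 2 := by rw [hK]; norm_num
    rw [← Cfsg.Lib.U33.card_su (F := GaloisField 3 2) hK']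
    exact Nat.card_congr ((QuotientGroup.quotientMulEquivOfEq
      (Cfsg.Lib.U33.center_su (F := GaloisField 3 2) hK')).trans QuotientGroup.quotientBot).toEquiv
  have hcc : Nat.card ↥(commutator ↥(Subgroup.closure modelSet)) = 6048 := by
    rw [← Nat.card_congr E1.toEquiv, Nat.card_congr E2.toEquiv, hpsu]
  have heq : commutator ↥(Subgroup.closure modelSet) = R := eq_of_le_of_card_ge hle (by rw [hRc, hcc])
  exact ⟨(MonoidHom.ofInjective d.rho_injective).trans ((subgroupOfEquivOfLe d.range_le).symm.trans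
    ((MulEquiv.subgroupCongr heq.symm).trans (E1.symm.trans E2)))⟩

end Cfsg.Lib.LenSeven.UThree
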